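import Cfsg.Agent.OddHalf.DblR.HexK.KFour
import Cfsg.Agent.OddHalf.DblR.Exist
import Cfsg.Agent.OddHalf.DblR.FamP

-- merged: Cfsg.Agent.OddHalf.DblR.HexK.KB
section

/-!
# `G₂(q)`, `³D₄(q)`: elements which act trivially on `P₁ / Q₁` and on `X₄`

`exists_q` : such an element acts on `P` like an element of `Q`.
-/

set_option autoImplicit false
set_option maxHeartbeats 400000

namespace Cfsg.Agent.OddHalf.DblR.HexK

open Subgroup Cfsg.Agent.StdRank2.Hex Cfsg.Agent.StdRank2.Hex.HexTwo Cfsg.Agent.SplitTwo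
open scoped commutatorElement

variable {E : Type*} [Field E] {σ : E ≃+* E}

/-! ### Field lemmas -/

def LinF (σ : E ≃+* E) (g : E → E) : Prop := ∀ t, σ t = t → g t = t * g 1

def AddF (σ : E ≃+* E) (g : E → E) : Prop := ∀ s t, σ s = s → σ t = t → g (s + t) = g s + g t

theorem LinF.of_exists {g : E → E} (H : ∃ κ, ∀ t, σ t = t → g t = t * κ) : LinF σ g := by
  obtain ⟨κ, H⟩ := H
  have h1 := H 1 (map_one σ)
  rw [one_mul] at h1
  intro t ht
  rw [H t ht, h1]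

theorem lin_of (two : (2 : E) = 0) {g2 g3 g5 : E → E} (a2 : AddF σ g2) (a3 : AddF σ g3)
    (H : ∀ s, σ s = s → s ≠ 0 → ∃ κ, ∀ t, σ t = t → g2 (t * s ^ 2) + g3 (t * s) + g5 t = t * κ)
    {ω : E} (hω : σ ω = ω) (hω0 : ω ≠ 0) (hω1 : ω ≠ 1) : LinF σ g2 ∧ LinF σ g3 ∧ LinF σ g5 := by
  have hw1 : ω + 1 ≠ 0 := fun h0 => hω1 (by linear_combination h0 - two)
  have hwf : σ (ω + 1) = ω + 1 := by rw [map_add, hω, map_one]
  obtain ⟨k1, K1⟩ := H 1 (map_one σ) one_ne_zero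
  obtain ⟨k2, K2⟩ := H ω hω hω0
  obtain ⟨k3, K3⟩ := H (ω + 1) hwf hw1
  have e23 : ∀ t, σ t = t → g2 t + g3 t = t * (k2 + k3) := by
    intro t ht
    have h1 := K2 t ht
    have h2 := K3 t ht
    have e1 : t * (ω + 1) ^ 2 = t * ω ^ 2 + t := by linear_combination t * ω * two
    have e2 : t * (ω + 1) = t * ω + t := by ring
    rw [e1, e2, a2 _ _ (by rw [map_mul, map_pow, ht, hω]) ht, a3 _ _ (by rw [map_mul, ht, hω]) ht] at h2
    linear_combination h1 + h2 - (g2 (t * ω ^ 2) + g3 (t * ω) + g5 t) * two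
  have e5 : ∀ t, σ t = t → g5 t = t * (k1 + (k2 + k3)) := by
    intro t ht
    have h1 := K1 t ht
    rw [one_pow, mul_one] at h1
    have h2 := e23 t ht
    linear_combination h1 + h2 - (g2 t + g3 t) * two
  have e3 : ∀ t, σ t = t → g3 t = g2 t + t * (k2 + k3) := by
    intro t ht
    linear_combination e23 t ht - g2 t * two
  have es : ∀ s, σ s = s → s ≠ 0 → ∃ m, ∀ t, σ t = t → g2 (t * s) + g2 t = t * m := by
    intro s hs hs0
    obtain ⟨k, K⟩ := H s hs hs0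
    refine ⟨(k + s * (k2 + k3) + (k1 + (k2 + k3))) / s, fun t ht => ?_⟩
    have hts : σ (t / s) = t / s := by rw [map_div₀, ht, hs]
    have h1 := K (t / s) hts
    have f1 : t / s * s ^ 2 = t * s := by field_simp
    have f2 : t / s * s = t := by field_simp
    rw [f1, f2, e3 t ht, e5 _ hts] at h1
    field_simp at h1 ⊢
    linear_combination h1 - (t * (k2 + k3) * s + t * (k1 + (k2 + k3))) * two
  obtain ⟨m1, M1⟩ := es ω hω hω0
  obtain ⟨m2, M2⟩ := es (ω + 1) hwf hw1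
  have e2 : ∃ κ, ∀ t, σ t = t → g2 t = t * κ := by
    refine ⟨m1 + m2, fun t ht => ?_⟩
    have h1 := M1 t ht
    have h2 := M2 t ht
    have f1 : t * (ω + 1) = t * ω + t := by ring
    rw [f1, a2 _ _ (by rw [map_mul, ht, hω]) ht] at h2
    linear_combination h1 + h2 - (g2 (t * ω) + g2 t) * two
  refine ⟨LinF.of_exists e2, LinF.of_exists ?_, LinF.of_exists ⟨_, e5⟩⟩
  obtain ⟨κ, hκ⟩ := e2
  refine ⟨κ + (k2 + k3), fun t ht => ?_⟩
  rw [e3 t ht, hκ t ht]; ring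

/-- linear forms are given by the trace form -/
theorem exists_trace_rep [Finite E] (hc : ∀ a, σ (σ (σ a)) = a) (hnd : ∀ a, (∀ y, trc σ a y = 0) → a = 0)
    {g : E → E} (hadd : ∀ a b, g (a + b) = g a + g b) (hlin : ∀ t a, σ t = t → g (t * a) = t * g a)
    (hfix : ∀ a, σ (g a) = g a) : ∃ c, ∀ a, trc σ c a = g a := by
  let F : Subfield E := RingHom.eqLocusField (σ : E →+* E) (RingHom.id E)
  have hF : ∀ a : E, a ∈ F ↔ σ a = a := fun a => Iff.rfl
  have hft : ∀ t : F, σ (t : E) = t := fun t => (hF t).1 t.2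
  have hsm : ∀ (t : F) (a : E), t • a = (t : E) * a := fun t a => rfl
  let B : E →ₗ[F] (E →ₗ[F] F) := LinearMap.mk₂ F (fun a b => (⟨trc σ a b, trc_fix hc a b⟩ : F))
    (fun a b c => Subtype.ext (trc_add_left a b c))
    (fun t a b => Subtype.ext (by
      change trc σ (t • a) b = (t : E) * trc σ a b
      rw [hsm, trc_smul_left (hft t)]))
    (fun a b c => Subtype.ext (trc_add_right a b c))
    (fun t a b => Subtype.ext (by
      change trc σ a (t • b) = (t : E) * trc σ a b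
      rw [hsm, trc_smul_right (hft t)]))
  have hB : Function.Injective B := by
    rw [injective_iff_map_eq_zero]
    intro a ha
    apply hnd
    intro y
    have h1 : B a y = 0 := by rw [ha]; rfl
    exact congrArg Subtype.val h1
  have hfin : Module.Finite F E := Module.Finite.of_finite
  have hs : Function.Surjective B :=
    (LinearMap.injective_iff_surjective_of_finrank_eq_finrank (Subspace.dual_finrank_eq (K := F) (V := E)).symm).1 hB
  let g' : E →ₗ[F] F :=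
    { toFun := fun a => ⟨g a, hfix a⟩
      map_add' := fun a b => Subtype.ext (hadd a b)
      map_smul' := fun t a => Subtype.ext (by
        change g (t • a) = (t : E) * g a
        rw [hsm, hlin t a (hft t)]) }
  obtain ⟨c, hc'⟩ := hs g'
  refine ⟨c, fun a => ?_⟩
  have h1 : B c a = g' a := by rw [hc']
  exact congrArg Subtype.val h1

theorem comm_central {G : Type*} [Group G] {z1 z2 p r : G} (h1 : z1 * p = p * z1) (h2 : z1 * r = r * z1)
    (h3 : z2 * p = p * z2) (h4 : z2 * r = r * z2) (h5 : z1 * z2 = z2 * z1) : ⁅z1 * p, z2 * r⁆ = ⁅p, r⁆ := by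
  have c1 : Commute z1 p := h1
  have c2 : Commute z1 r := h2
  have c3 : Commute z2 p := h3
  have c4 : Commute z2 r := h4
  have c5 : Commute z1 z2 := h5
  have c6 : Commute z1 (z2 * (p * r * p⁻¹)) := c5.mul_right ((c1.mul_right c2).mul_right c1.inv_right)
  have c7 : Commute z2 (p * r * p⁻¹ * r⁻¹) := ((c3.mul_right c4).mul_right c3.inv_right).mul_right c4.inv_right
  calc ⁅z1 * p, z2 * r⁆ = z1 * ((p * z2) * r * p⁻¹) * z1⁻¹ * (r⁻¹ * z2⁻¹) := by
        rw [commutatorElement_def, mul_inv_rev, mul_inv_rev]; group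
    _ = z1 * (z2 * (p * r * p⁻¹)) * z1⁻¹ * (r⁻¹ * z2⁻¹) := by rw [← h3]; group
    _ = z2 * (p * r * p⁻¹ * r⁻¹) * z2⁻¹ := by rw [c6.eq]; group
    _ = ⁅p, r⁆ := by rw [c7.eq, commutatorElement_def]; group

variable {G : Type*} [Group G] {x : ZMod 12 → E → G} (h : HexTwo σ x)
include h

theorem Co.inv {v : G} {b c e f : E} (h1 : Co σ x v b c e f) : Co σ x v⁻¹ b c e f := by
  obtain ⟨b', c', e', f', h2⟩ := exists_co h (inv_mem h1.mem)
  have h3 := h1.mul h h2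
  rw [mul_inv_cancel] at h3
  obtain ⟨a1, a2, a3, a4⟩ := h3.unique h (co_one h)
  have hh : ∀ u v : E, u + v = 0 → v = u := fun u v e => by
    have := h.add_self u
    linear_combination e - this
  rw [hh _ _ a1, hh _ _ a2, hh _ _ a3, hh _ _ a4] at h2
  exact h2

section

variable {y : G} (hP : ∀ p ∈ gen σ x (arc 1 7), y * p * y⁻¹ * p⁻¹ ∈ gen σ x (arc 2 5))
  (hX : ∀ z ∈ gen σ x {4}, y * z = z * y)
include hP hX

omit h hP in
theorem hX_conj : ∀ z ∈ gen σ x {4}, y * z * y⁻¹ ∈ gen σ x {4} := fun z hz => by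
  rw [hX z hz, mul_inv_cancel_right]; exact hz

/-- `y` acts trivially on `Q / X₄` -/
theorem co_conj (hg : NormGen σ) {ω : E} (hω : σ ω = ω) (hω0 : ω ≠ 0) (hω1 : ω ≠ 1) :
    (∀ t, σ t = t → Co σ x (y * x 2 t * y⁻¹) t 0 0 0) ∧ (∀ c, Co σ x (y * x 3 c * y⁻¹) 0 c 0 0) ∧
      (∀ c, Co σ x (y * x 5 c * y⁻¹) 0 0 c 0) ∧ (∀ t, σ t = t → Co σ x (y * x 6 t * y⁻¹) 0 0 0 t) := by
  obtain ⟨l, hlf, hl0, h2, h6, h35, h4⟩ := exists_lam h hP hg hω hω0 hω1 (hX_conj hX)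
  have hl : l = 1 := by
    have h1 := h4 1 (map_one σ)
    rw [hX _ (x_mem_gen (Set.mem_singleton _) (ok_one σ 4)), mul_inv_cancel_right] at h1
    have h3 := (h.x_inj (k := 4) (ok_one σ 4) (ok_of_fix 4 (by rw [map_mul, map_mul, hlf, map_one]))).1 h1
    rw [mul_one] at h3
    exact h.sq_eq_one h3.symm
  subst hl
  simp only [one_mul] at h2 h6 h35
  have hw1 : 1 + ω ≠ 0 := fun h0 => hω1 (by have := h.add_self (1 : E); linear_combination h0 - this)
  have h3 : ∀ c, Co σ x (y * x 3 c * y⁻¹) 0 c 0 0 := by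
    intro c
    by_cases hc : c = 0
    · subst hc
      rw [h.x_zero, mul_one, mul_inv_cancel]
      exact co_one h
    set t : E := nrm σ c / (1 + ω) with ht
    have htf : σ t = t := by rw [ht, map_div₀, h.fix_nrm, map_add, map_one, hω]
    have htw : σ (t / ω) = t / ω := by rw [map_div₀, htf, hω]
    have r1 := h35 t c⁻¹ htf
    have r2 := (h35 (t / ω) (ω * c⁻¹) htw)
    have e1 : t / ω * shp σ (ω * c⁻¹) = t * ω * shp σ c⁻¹ := by
      rw [shp_fix_mul h hω]; field_simp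
    have e2 : t / ω * (ω * c⁻¹) = t * c⁻¹ := by field_simp
    rw [e1, e2] at r2
    have r3 := r1.mul h (r2.inv h)
    have e3 : y * (x 3 (t * shp σ c⁻¹) * x 5 (t * c⁻¹)) * y⁻¹ * (y * (x 3 (t * ω * shp σ c⁻¹) * x 5 (t * c⁻¹)) * y⁻¹)⁻¹
        = y * (x 3 (t * shp σ c⁻¹) * (x 3 (t * ω * shp σ c⁻¹))⁻¹) * y⁻¹ := by group
    have hs : shp σ c ≠ 0 := shp_ne_zero hc
    have hsi : shp σ c⁻¹ = (shp σ c)⁻¹ := by unfold shp; rw [map_inv₀, map_inv₀, mul_inv]
    have e4 : t * shp σ c⁻¹ + t * ω * shp σ c⁻¹ = c := by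
      rw [ht, hsi, nrm_eq]; field_simp
    rw [e3, h.x_inv (ok_odd (by decide) _), ← h.add 3 _ _ (ok_odd (by decide) _) (ok_odd (by decide) _), e4] at r3
    have e5 : (0 : E) + 0 = 0 := add_zero 0
    have e6 : t * c⁻¹ + t * c⁻¹ = 0 := h.add_self _
    rw [e5, e6] at r3
    exact r3
  refine ⟨h2, h3, fun c => ?_, h6⟩
  have r := h.refl1 3 c (ok_odd (by decide) _)
  rw [show (8 - 3 : ZMod 12) = 5 by decide] at r
  rw [← r, act_iff h hP nn1_P]
  exact (h3 c).conjn h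

/-- `y v y⁻¹ = x₄(s) v` -/
def Ps (σ : E ≃+* E) (x : ZMod 12 → E → G) (y v : G) (s : E) : Prop :=
  v ∈ gen σ x (arc 2 5) ∧ σ s = s ∧ y * v * y⁻¹ = x 4 s * v

omit hP hX in
theorem Ps.unique {v : G} {s t : E} (h1 : Ps σ x y v s) (h2 : Ps σ x y v t) : s = t := by
  have := h1.2.2.symm.trans h2.2.2
  exact (h.x_inj (ok_of_fix 4 h1.2.1) (ok_of_fix 4 h2.2.1)).1 (mul_right_cancel this)

omit hP hX in
theorem X4_Q {v : G} (hv : v ∈ gen σ x (arc 2 5)) {s : E} (hs : σ s = s) : x 4 s * v = v * x 4 s :=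
  (h.comm_gen_long (k := 4) (by decide) (ok_of_fix 4 hs)
    (arc_sub (k := 2) (l := 4 - 3) (m := 5) (n := 7) (by decide) hv)).eq

omit hP hX in
theorem Ps.mul {v w : G} {s t : E} (h1 : Ps σ x y v s) (h2 : Ps σ x y w t) : Ps σ x y (v * w) (s + t) := by
  refine ⟨mul_mem h1.1 h2.1, by rw [map_add, h1.2.1, h2.2.1], ?_⟩
  calc y * (v * w) * y⁻¹ = (y * v * y⁻¹) * (y * w * y⁻¹) := by group
    _ = x 4 s * (v * x 4 t) * w := by rw [h1.2.2, h2.2.2]; group
    _ = x 4 (s + t) * (v * w) := by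
      rw [← X4_Q h h1.1 h2.2.1, h.add 4 s t (ok_of_fix 4 h1.2.1) (ok_of_fix 4 h2.2.1)]; group

omit h hP in
theorem ps_x4 (h : HexTwo σ x) {d : E} (hd : σ d = d) : Ps σ x y (x 4 d) 0 := by
  have hm : x 4 d ∈ gen σ x {4} := x_mem_gen (Set.mem_singleton _) (ok_of_fix 4 hd)
  refine ⟨sing_le h (by decide) hm, map_zero σ, ?_⟩
  rw [hX _ hm, mul_inv_cancel_right, h.x_zero, one_mul]

omit hP hX in
theorem exists_ps {v : G} {b c e f : E} (h1 : Co σ x v b c e f) (h2 : Co σ x (y * v * y⁻¹) b c e f) :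
    ∃ s, Ps σ x y v s := by
  obtain ⟨hb, hf, d, hd, e1⟩ := h1
  obtain ⟨-, -, d', hd', e2⟩ := h2
  have hD : σ (d' + d) = d' + d := by rw [map_add, hd, hd']
  refine ⟨d' + d, by rw [e1]; exact q_mem hb hd hf, hD, ?_⟩
  rw [e2, e1, ← h.q4 (d' + d), h.q_mul (map_zero σ) hD (map_zero σ) hb hd hf, trc_zero_right, ]
  have := h.add_self d
  congr 1
  · ring
  · ring
  · linear_combination -this
  · ring
  · ring

omit hX in
/-- the action of `p ∈ P` -/
theorem Ps.conj (hXc : ∀ z ∈ gen σ x {4}, ∀ p ∈ gen σ x (arc 1 7), p * z = z * p) {p v : G}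
    (hp : p ∈ gen σ x (arc 1 7)) {s : E} (h1 : Ps σ x y v s) {B C E' F' b c e f : E}
    (hw : Co σ x (y * p * y⁻¹ * p⁻¹) B C E' F') (hv : Co σ x (p * v * p⁻¹) b c e f) :
    Ps σ x y (p * v * p⁻¹) (s + BB σ B C E' F' b c e f) := by
  have hB : σ (BB σ B C E' F' b c e f) = BB σ B C E' F' b c e f := by
    unfold BB
    rw [map_add, map_add, map_add, map_mul, map_mul, h.fix_trc, h.fix_trc, hw.1, hw.2.1, hv.1, hv.2.1]
  have hxs : x 4 s ∈ gen σ x {4} := x_mem_gen (Set.mem_singleton _) (ok_of_fix 4 h1.2.1)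
  refine ⟨hv.mem, by rw [map_add, h1.2.1, hB], ?_⟩
  have hwP : y * p * y⁻¹ * p⁻¹ ∈ gen σ x (arc 1 7) := arc_sub (k := 2) (l := 1) (m := 5) (n := 7) (by decide) hw.mem
  set w := y * p * y⁻¹ * p⁻¹ with hwd
  calc y * (p * v * p⁻¹) * y⁻¹ = w * (p * (y * v * y⁻¹) * p⁻¹) * w⁻¹ := by rw [hwd]; group
    _ = w * (p * x 4 s) * v * p⁻¹ * w⁻¹ := by rw [h1.2.2]; group
    _ = (w * x 4 s) * (p * v * p⁻¹) * w⁻¹ := by rw [hXc _ hxs p hp]; group
    _ = x 4 s * (w * (p * v * p⁻¹) * w⁻¹) := by rw [hXc _ hxs w hwP]; group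
    _ = x 4 (s + BB σ B C E' F' b c e f) * (p * v * p⁻¹) := by
      rw [conj_Co h hw hv, h.add 4 _ _ (ok_of_fix 4 h1.2.1) (ok_of_fix 4 hB)]; group

/-- **`y` acts on `P` like an element of `Q`.** -/
theorem exists_q [Finite E] (hg : NormGen σ) {ω : E} (hω : σ ω = ω) (hω0 : ω ≠ 0) (hω1 : ω ≠ 1) :
    ∃ q₀ ∈ gen σ x (arc 2 5), ∀ p ∈ gen σ x (arc 1 7), y * p * y⁻¹ = q₀ * p * q₀⁻¹ := by
  obtain ⟨c2, c3, c5, c6⟩ := co_conj h hP hX hg hω hω0 hω1
  have hXc : ∀ z ∈ gen σ x {4}, ∀ p ∈ gen σ x (arc 1 7), p * z = z * p := fun z hz p hp =>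
    Cfsg.Agent.HexStart.X4_comm h hz hp
  have ex2 : ∀ t : E, ∃ s, σ t = t → Ps σ x y (x 2 t) s := fun t => by
    by_cases ht : σ t = t
    · obtain ⟨s, hs⟩ := exists_ps h (co_x2 h ht) (c2 t ht)
      exact ⟨s, fun _ => hs⟩
    · exact ⟨0, fun h0 => absurd h0 ht⟩
  have ex6 : ∀ t : E, ∃ s, σ t = t → Ps σ x y (x 6 t) s := fun t => by
    by_cases ht : σ t = t
    · obtain ⟨s, hs⟩ := exists_ps h (co_x6 h ht) (c6 t ht)
      exact ⟨s, fun _ => hs⟩
    · exact ⟨0, fun h0 => absurd h0 ht⟩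
  have ex3 : ∀ c : E, ∃ s, Ps σ x y (x 3 c) s := fun c => exists_ps h (co_x3 h c) (c3 c)
  have ex5 : ∀ c : E, ∃ s, Ps σ x y (x 5 c) s := fun c => exists_ps h (co_x5 h c) (c5 c)
  choose p2 hp2 using ex2
  choose p6 hp6 using ex6
  choose p3 hp3 using ex3
  choose p5 hp5 using ex5
  have add2 : AddF σ p2 := fun s t hs ht => by
    have h1 := (hp2 s hs).mul h (hp2 t ht)
    rw [← h.add 2 s t (ok_of_fix 2 hs) (ok_of_fix 2 ht)] at h1
    exact (hp2 _ (by rw [map_add, hs, ht])).unique h h1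
  have add3 : ∀ a b, p3 (a + b) = p3 a + p3 b := fun a b => by
    have h1 := (hp3 a).mul h (hp3 b)
    rw [← h.add 3 a b (ok_odd (by decide) _) (ok_odd (by decide) _)] at h1
    exact (hp3 _).unique h h1
  have add5 : ∀ a b, p5 (a + b) = p5 a + p5 b := fun a b => by
    have h1 := (hp5 a).mul h (hp5 b)
    rw [← h.add 5 a b (ok_odd (by decide) _) (ok_odd (by decide) _)] at h1
    exact (hp5 _).unique h h1
  -- equation (3)
  have eq3 : ∀ a, ∃ κ, ∀ t, σ t = t → p2 (t * nrm σ a) + p3 (t * shp σ a) + p5 (t * a) = t * κ := by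
    intro a
    obtain ⟨B, C, E', F', hw⟩ := exists_co h (hP _ (x1_P a))
    have hF' : F' = 0 := by
      have h1 : Co σ x (x 1 a * x 2 1 * (x 1 a)⁻¹) 1 0 0 0 := by
        rw [h.s12 a (map_one σ), mul_inv_cancel_right]; exact co_x2 h (map_one σ)
      have h2 := Ps.conj h hP hXc (x1_P a) (hp2 1 (map_one σ)) hw h1
      rw [h.s12 a (map_one σ), mul_inv_cancel_right] at h2
      have h3 := (hp2 1 (map_one σ)).unique h h2
      unfold BB at h3
      rw [trc_zero_left, trc_zero_right] at h3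
      linear_combination -h3
    subst hF'
    refine ⟨B + trc σ (shp σ a) E' + trc σ C a, fun t ht => ?_⟩
    have h2 : Co σ x (x 1 a * x 6 t * (x 1 a)⁻¹) (t * nrm σ a) (t * shp σ a) (t * a) t := by
      have := (co_x6 h ht).conj1 h a
      simpa [trc_zero_right, crs_zero_right] using this
    have h3 := Ps.conj h hP hXc (x1_P a) (hp6 t ht) hw h2
    obtain ⟨-, -, d, hd, e2⟩ := h2
    have e3 : x 1 a * x 6 t * (x 1 a)⁻¹ = x 2 (t * nrm σ a) * (x 4 d * (x 3 (t * shp σ a) * x 5 (t * a))) * x 6 t := by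
      rw [e2]
      unfold q
      have := h.s34 (t * shp σ a) hd
      calc x 2 (t * nrm σ a) * x 3 (t * shp σ a) * x 4 d * x 5 (t * a) * x 6 t
          = x 2 (t * nrm σ a) * (x 3 (t * shp σ a) * x 4 d) * x 5 (t * a) * x 6 t := by group
        _ = _ := by rw [this]; group
    have h4 := ((hp2 (t * nrm σ a) (by rw [map_mul, ht, h.fix_nrm])).mul h ((ps_x4 hX h hd).mul h ((hp3 (t * shp σ a)).mul h
      (hp5 (t * a))))).mul h (hp6 t ht)
    rw [← e3] at h4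
    have h5 := h4.unique h h3
    unfold BB at h5
    rw [trc_smul_left ht, trc_smul_right ht] at h5
    linear_combination h5
  -- linearity
  have key : ∀ a, (∀ t, σ t = t → p2 (t * nrm σ a) = t * p2 (nrm σ a)) ∧ (∀ t, σ t = t → p3 (t * shp σ a) = t * p3 (shp σ a)) ∧
      (∀ t, σ t = t → p5 (t * a) = t * p5 a) := by
    intro a
    have ha2 : AddF σ fun t => p2 (t * nrm σ a) := fun s t hs ht => by
      show p2 ((s + t) * nrm σ a) = p2 (s * nrm σ a) + p2 (t * nrm σ a)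
      rw [add_mul, add2 _ _ (by rw [map_mul, hs, h.fix_nrm]) (by rw [map_mul, ht, h.fix_nrm])]
    have ha3 : AddF σ fun t => p3 (t * shp σ a) := fun s t _ _ => by
      show p3 ((s + t) * shp σ a) = p3 (s * shp σ a) + p3 (t * shp σ a)
      rw [add_mul, add3]
    obtain ⟨l2, l3, l5⟩ := lin_of (σ := σ) h.two (g2 := fun t => p2 (t * nrm σ a)) (g3 := fun t => p3 (t * shp σ a))
      (g5 := fun t => p5 (t * a)) ha2 ha3 (fun s hs hs0 => by
        obtain ⟨κ, hκ⟩ := eq3 (s * a)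
        refine ⟨κ / s, fun t ht => ?_⟩
        have h1 := hκ (t / s) (by rw [map_div₀, ht, hs])
        rw [nrm_fix_mul h hs, shp_fix_mul h hs] at h1
        have e1 : t / s * (s ^ 3 * nrm σ a) = t * s ^ 2 * nrm σ a := by field_simp
        have e2 : t / s * (s ^ 2 * shp σ a) = t * s * shp σ a := by field_simp
        have e3 : t / s * (s * a) = t * a := by field_simp
        rw [e1, e2, e3] at h1
        rw [h1]; ring) hω hω0 hω1
    refine ⟨fun t ht => ?_, fun t ht => ?_, fun t ht => ?_⟩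
    · have := l2 t ht; simpa using this
    · have := l3 t ht; simpa using this
    · have := l5 t ht; simpa using this
  have lin5 : ∀ t a, σ t = t → p5 (t * a) = t * p5 a := fun t a ht => (key a).2.2 t ht
  have lin3 : ∀ t c, σ t = t → p3 (t * c) = t * p3 c := by
    intro t c ht
    by_cases hc : c = 0
    · subst hc
      have h0 : p3 0 = 0 := by
        have := add3 0 0
        rw [add_zero] at this
        exact left_eq_add.1 this
      rw [mul_zero, h0, mul_zero]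
    have hs : shp σ c ≠ 0 := shp_ne_zero hc
    have hsi : shp σ c⁻¹ = (shp σ c)⁻¹ := by unfold shp; rw [map_inv₀, map_inv₀, mul_inv]
    have e1 : c = nrm σ c * shp σ c⁻¹ := by rw [hsi, nrm_eq]; field_simp
    have h1 := (key c⁻¹).2.1 (nrm σ c) (h.fix_nrm c)
    have h2 := (key c⁻¹).2.1 (t * nrm σ c) (by rw [map_mul, ht, h.fix_nrm])
    rw [← e1] at h1
    have e2 : t * nrm σ c * shp σ c⁻¹ = t * c := by rw [mul_assoc, ← e1]
    rw [e2] at h2
    rw [h2, h1, mul_assoc]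
  have lin2 : ∀ t, σ t = t → p2 t = t * p2 1 := by
    intro t ht
    have := (key 1).1 t ht
    rwa [nrm_one, mul_one] at this
  -- `ψ₆`
  obtain ⟨B, C, E', F', hw⟩ := exists_co h (hP _ (nn1_P (σ := σ)))
  have nn_x2 : ∀ t, σ t = t → nn x 1 * x 2 t * (nn x 1)⁻¹ = x 6 t := fun t ht => by
    have := h.refl1 2 t (ok_of_fix 2 ht)
    rwa [show (8 - 2 : ZMod 12) = 6 by decide] at this
  have lin6 : ∀ t, σ t = t → p6 t = t * p6 1 := by
    have h6 : ∀ t, σ t = t → p6 t = p2 t + B * t := by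
      intro t ht
      have h1 : Co σ x (nn x 1 * x 2 t * (nn x 1)⁻¹) 0 0 0 t := by rw [nn_x2 t ht]; exact co_x6 h ht
      have h2 := Ps.conj h hP hXc nn1_P (hp2 t ht) hw h1
      rw [nn_x2 t ht] at h2
      have h3 := (hp6 t ht).unique h h2
      unfold BB at h3
      rw [trc_zero_left, trc_zero_right] at h3
      linear_combination h3
    intro t ht
    rw [h6 t ht, h6 1 (map_one σ), lin2 t ht]
    ring
  -- the element `q₀`
  have hnd : ∀ a, (∀ y, trc σ a y = 0) → a = 0 := fun a ha => h.eq_zero_of_trc ha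
  obtain ⟨C0, hC0⟩ := exists_trace_rep h.cube hnd add5 lin5 (fun a => (hp5 a).2.1)
  obtain ⟨E0, hE0⟩ := exists_trace_rep h.cube hnd add3 lin3 (fun a => (hp3 a).2.1)
  have hB0 : σ (p6 1) = p6 1 := (hp6 1 (map_one σ)).2.1
  have hF0 : σ (p2 1) = p2 1 := (hp2 1 (map_one σ)).2.1
  set q₀ : G := q x (p6 1) C0 0 E0 (p2 1) with hq₀
  have hq0 : Co σ x q₀ (p6 1) C0 E0 (p2 1) := ⟨hB0, hF0, 0, map_zero σ, rfl⟩
  have a2 : ∀ t, σ t = t → y * x 2 t * y⁻¹ = q₀ * x 2 t * q₀⁻¹ := fun t ht => by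
    rw [(hp2 t ht).2.2, conj_Co h hq0 (co_x2 h ht)]
    congr 2
    unfold BB
    rw [trc_zero_left, trc_zero_right, lin2 t ht]; ring
  have a3 : ∀ c, y * x 3 c * y⁻¹ = q₀ * x 3 c * q₀⁻¹ := fun c => by
    rw [(hp3 c).2.2, conj_Co h hq0 (co_x3 h c)]
    congr 2
    unfold BB
    rw [trc_zero_right, trc_comm c E0, hE0]; ring
  have a5 : ∀ c, y * x 5 c * y⁻¹ = q₀ * x 5 c * q₀⁻¹ := fun c => by
    rw [(hp5 c).2.2, conj_Co h hq0 (co_x5 h c)]
    congr 2
    unfold BB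
    rw [trc_zero_left, hC0]; ring
  have a6 : ∀ t, σ t = t → y * x 6 t * y⁻¹ = q₀ * x 6 t * q₀⁻¹ := fun t ht => by
    rw [(hp6 t ht).2.2, conj_Co h hq0 (co_x6 h ht)]
    congr 2
    unfold BB
    rw [trc_zero_left, trc_zero_right, lin6 t ht]; ring
  have a4 : ∀ t, σ t = t → y * x 4 t * y⁻¹ = q₀ * x 4 t * q₀⁻¹ := fun t ht => by
    have hm : x 4 t ∈ gen σ x {4} := x_mem_gen (Set.mem_singleton _) (ok_of_fix 4 ht)
    rw [hX _ hm, mul_inv_cancel_right, ← X4_Q h hq0.mem ht, mul_inv_cancel_right]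
  -- `q₀⁻¹ y` centralises `Q`
  have hQ : ∀ v ∈ gen σ x (arc 2 5), (q₀⁻¹ * y) * v = v * (q₀⁻¹ * y) := by
    have hle : gen σ x (arc 2 5) ≤ centralizer ({q₀⁻¹ * y} : Set G) := by
      refine gen_le fun k hk a ha => ?_
      rw [mem_centralizer_iff]
      rintro _ rfl
      have conv : y * x k a * y⁻¹ = q₀ * x k a * q₀⁻¹ → q₀⁻¹ * y * x k a = x k a * (q₀⁻¹ * y) := by
        intro e1
        calc q₀⁻¹ * y * x k a = q₀⁻¹ * (y * x k a * y⁻¹) * y := by group
          _ = x k a * (q₀⁻¹ * y) := by rw [e1]; group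
      apply conv
      have : ∀ k : ZMod 12, (k - 2).val < 5 → k = 2 ∨ k = 3 ∨ k = 4 ∨ k = 5 ∨ k = 6 := by decide
      rcases this k hk with rfl | rfl | rfl | rfl | rfl
      · exact a2 a (ha (by decide))
      · exact a3 a
      · exact a4 a (ha (by decide))
      · exact a5 a
      · exact a6 a (ha (by decide))
    intro v hv
    exact mem_centralizer_iff.1 (hle hv) _ (Set.mem_singleton _)
  refine ⟨q₀, hq0.mem, ?_⟩
  set y' := q₀⁻¹ * y with hy'
  -- `y' p y'⁻¹ p⁻¹ ∈ X₄`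
  have hz : ∀ p ∈ gen σ x (arc 1 7), y' * p * y'⁻¹ * p⁻¹ ∈ gen σ x {4} := by
    intro p hp
    have hm : y' * p * y'⁻¹ * p⁻¹ ∈ gen σ x (arc 2 5) := by
      have h1 : y' * p * y'⁻¹ * p⁻¹ = q₀⁻¹ * ((y * p * y⁻¹ * p⁻¹) * (p * q₀ * p⁻¹)) := by rw [hy']; group
      rw [h1]
      exact mul_mem (inv_mem hq0.mem) (mul_mem (hP p hp) (Cfsg.Agent.HexStart.P1_Q1 h hp hq0.mem))
    refine h.mem_X4_of_Q1 hm fun v hv => ?_
    have h1 : p⁻¹ * v * p ∈ gen σ x (arc 2 5) := by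
      have := Cfsg.Agent.HexStart.P1_Q1 h (inv_mem hp) hv
      rwa [inv_inv] at this
    have h2 := hQ _ h1
    have h3 := hQ v hv
    have h3' : y'⁻¹ * v = v * y'⁻¹ := by
      calc y'⁻¹ * v = y'⁻¹ * (v * y') * y'⁻¹ := by group
        _ = v * y'⁻¹ := by rw [← h3]; group
    change y' * p * y'⁻¹ * p⁻¹ * v = v * (y' * p * y'⁻¹ * p⁻¹)
    calc y' * p * y'⁻¹ * p⁻¹ * v = y' * p * (y'⁻¹ * (p⁻¹ * v * p)) * p⁻¹ := by group
      _ = y' * p * ((p⁻¹ * v * p) * y'⁻¹) * p⁻¹ := by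
          rw [show y'⁻¹ * (p⁻¹ * v * p) = (p⁻¹ * v * p) * y'⁻¹ by
            calc y'⁻¹ * (p⁻¹ * v * p) = y'⁻¹ * ((p⁻¹ * v * p) * y') * y'⁻¹ := by group
              _ = (p⁻¹ * v * p) * y'⁻¹ := by rw [← h2]; group]
      _ = (y' * v) * p * y'⁻¹ * p⁻¹ := by group
      _ = v * (y' * p * y'⁻¹ * p⁻¹) := by rw [h3]; group
  -- `P` is perfect
  have hfin : ∀ p ∈ gen σ x (arc 1 7), y' * p = p * y' := by
    have hperf : ⁅gen σ x (arc 1 7), gen σ x (arc 1 7)⁆ = gen σ x (arc 1 7) :=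
      Cfsg.Agent.HexStart.P1_perfect h hω0 hω1
    have hle : ⁅gen σ x (arc 1 7), gen σ x (arc 1 7)⁆ ≤ centralizer ({y'} : Set G) := by
      rw [commutator_le]
      intro p hp r hr
      rw [mem_centralizer_iff]
      rintro _ rfl
      have hz1 := hz p hp
      have hz2 := hz r hr
      have e1 : y' * p * y'⁻¹ = (y' * p * y'⁻¹ * p⁻¹) * p := by group
      have e2 : y' * r * y'⁻¹ = (y' * r * y'⁻¹ * r⁻¹) * r := by group
      have f1 : ⁅y' * p * y'⁻¹, y' * r * y'⁻¹⁆ = ⁅p, r⁆ := by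
        rw [e1, e2]
        exact comm_central (hXc _ hz1 p hp).symm (hXc _ hz1 r hr).symm (hXc _ hz2 p hp).symm (hXc _ hz2 r hr).symm
          (hXc _ hz1 _ (sing_le h (by decide) hz2)).symm
      calc y' * ⁅p, r⁆ = ⁅y' * p * y'⁻¹, y' * r * y'⁻¹⁆ * y' := by
            rw [commutatorElement_def, commutatorElement_def]; group
        _ = ⁅p, r⁆ * y' := by rw [f1]
    rw [hperf] at hle
    intro p hp
    exact mem_centralizer_iff.1 (hle hp) y' (Set.mem_singleton _)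
  intro p hp
  have := hfin p hp
  have e1 : y = q₀ * y' := by rw [hy']; group
  calc y * p * y⁻¹ = q₀ * (y' * p) * y'⁻¹ * q₀⁻¹ := by rw [e1]; group
    _ = q₀ * p * q₀⁻¹ := by rw [this]; group

end

end Cfsg.Agent.OddHalf.DblR.HexK

end

-- merged: Cfsg.Agent.OddHalf.DblR.HexK.Loc
section

/-!
# `G₂(q)`, `³D₄(q)`: the local situation at a long root group

`T0` : the torus elements `h₄(s)`; `loc` : `Loc (AA σ x) R P Q X₄ T0`; `norX` : `NorX`; `core_le` : `Q = O₂(P)`;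
`cj_of_cj_P` : `P` determines `Q` and `X₄`.
-/

set_option autoImplicit false
set_option maxHeartbeats 400000

namespace Cfsg.Agent.OddHalf.DblR.HexK

open Subgroup Cfsg.Agent.StdRank2.Hex Cfsg.Agent.StdRank2.Hex.HexTwo Cfsg.Agent.SplitTwo
open scoped commutatorElement

local notation "cJ" => Cfsg.Agent.Nodes.Reps.cj

variable {E : Type*} [Field E] {σ : E ≃+* E} {G : Type*} [Group G] {x : ZMod 12 → E → G} (h : HexTwo σ x)
include h

/-- the torus elements `h₄(s)` -/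
def T0 [Finite E] : Subgroup G where
  carrier := {g | ∃ s, σ s = s ∧ s ≠ 0 ∧ g = hh x 4 s}
  one_mem' := ⟨1, map_one σ, one_ne_zero, (h.hh_one 4).symm⟩
  mul_mem' := by
    rintro _ _ ⟨s, hs, hs0, rfl⟩ ⟨t, ht, ht0, rfl⟩
    exact ⟨s * t, by rw [map_mul, hs, ht], mul_ne_zero hs0 ht0,
      (h.hh_mul 4 hs0 ht0 (ok_of_fix 4 hs) (ok_of_fix 4 ht)).symm⟩
  inv_mem' := by
    rintro _ ⟨s, hs, hs0, rfl⟩
    exact ⟨s⁻¹, by rw [map_inv₀, hs], inv_ne_zero hs0, h.hh_inv 4 hs0 (ok_of_fix 4 hs)⟩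

theorem mem_T0 [Finite E] {g : G} : g ∈ T0 h ↔ ∃ s, σ s = s ∧ s ≠ 0 ∧ g = hh x 4 s := Iff.rfl

theorem T0_le_H [Finite E] : T0 h ≤ h.H := by
  rintro _ ⟨s, hs, hs0, rfl⟩
  exact h.hh_mem_H 4 hs0 (ok_of_fix 4 hs)

theorem hh4_x4 {s t : E} (hs : σ s = s) (hs0 : s ≠ 0) (ht : σ t = t) :
    hh x 4 s * x 4 t * (hh x 4 s)⁻¹ = x 4 (s * s * t) := by
  rw [h.tor 4 4 hs0 (ok_of_fix 4 hs) (ok_of_fix 4 ht), sub_self, ch_zero_right, pow_two]

/-- `[h₄(s), P] ≤ Q` -/
theorem T0_P [Finite E] {g p : G} (hg : g ∈ T0 h) (hp : p ∈ gen σ x (arc 1 7)) :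
    g * p * g⁻¹ * p⁻¹ ∈ gen σ x (arc 2 5) := by
  obtain ⟨s, hs, hs0, rfl⟩ := hg
  set g := hh x 4 s with hgd
  have hgH : g ∈ h.H := h.hh_mem_H 4 hs0 (ok_of_fix 4 hs)
  let S : Subgroup G :=
    { carrier := {p | p ∈ gen σ x (arc 1 7) ∧ g * p * g⁻¹ * p⁻¹ ∈ gen σ x (arc 2 5)}
      one_mem' := ⟨one_mem _, by simp⟩
      mul_mem' := by
        rintro p r ⟨hp, hp'⟩ ⟨hr, hr'⟩
        refine ⟨mul_mem hp hr, ?_⟩
        have e : g * (p * r) * g⁻¹ * (p * r)⁻¹ = (g * p * g⁻¹ * p⁻¹) * (p * (g * r * g⁻¹ * r⁻¹) * p⁻¹) := by group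
        rw [e]
        exact mul_mem hp' (Cfsg.Agent.HexStart.P1_Q1 h hp hr')
      inv_mem' := by
        rintro p ⟨hp, hp'⟩
        refine ⟨inv_mem hp, ?_⟩
        have e : g * p⁻¹ * g⁻¹ * p⁻¹⁻¹ = p⁻¹ * (g * p * g⁻¹ * p⁻¹)⁻¹ * p⁻¹⁻¹ := by group
        rw [e]
        exact Cfsg.Agent.HexStart.P1_Q1 h (inv_mem hp) (inv_mem hp') }
  have hle : gen σ x (arc 1 7) ≤ S := by
    refine gen_le fun k hk a ha => ?_
    refine ⟨x_mem_gen hk ha, ?_⟩
    have hc : ∀ k : ZMod 12, (k - 1).val < 7 → (k - 4 = 9 ∨ k - 4 = 3) ∨ (k - 2).val < 5 := by decide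
    rcases hc k hk with h1 | h1
    · rw [act_perp h (k := 4) (j := k) (by rcases h1 with h1 | h1; exact Or.inr h1; exact Or.inl h1) hs0
        (ok_of_fix 4 hs) ha, mul_inv_cancel]
      exact one_mem _
    · have h2 : x k a ∈ gen σ x (arc 2 5) := x_mem_gen h1 ha
      exact mul_mem (h.H_conj_gen hgH _ h2) (inv_mem h2)
  exact (hle hp).2

theorem X4_P {z p : G} (hz : z ∈ gen σ x {4}) (hp : p ∈ gen σ x (arc 1 7)) : z * p = p * z :=
  (Cfsg.Agent.HexStart.X4_comm h hz hp).symm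

/-- **`Loc` for `G₂(q)` and `³D₄(q)`.** -/
theorem loc [Finite E] [Finite G] (hg : NormGen σ) {ω : E} (hω : σ ω = ω) (hω0 : ω ≠ 0) (hω1 : ω ≠ 1)
    {R : Subgroup G} (A : Amb (AA σ x) R) (hR : ∃ t ∈ R, t ≠ 1)
    (two : ∀ c ∈ C1 (AA σ x) R, IsPGroup 2 (Subgroup.zpowers c) → c ∈ R) :
    Loc (AA σ x) R (gen σ x (arc 1 7)) (gen σ x (arc 2 5)) (gen σ x {4}) (T0 h) where
  amb := A
  PK := gen_mono (Set.subset_univ _)
  QP := arc_sub (by decide)
  XQ := sing_le h (by decide)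
  XX := by
    intro z hz
    obtain ⟨t, ht, rfl⟩ := h.mem_gen_singleton.1 hz
    exact h.x_sq ht
  XZ := fun z hz p hp => X4_P h hz hp
  QN := fun p hp q hq => Cfsg.Agent.HexStart.P1_Q1 h hp hq
  TK := (T0_le_H h).trans (H_le h)
  TX := fun g hg z hz => h.H_conj_gen (T0_le_H h hg) _ hz
  TQ := fun g hg p hp => T0_P h hg hp
  Tab := by
    rintro _ ⟨s, hs, hs0, rfl⟩ _ ⟨t, ht, ht0, rfl⟩
    exact (h.hh_commute 4 4 hs0 ht0 (ok_of_fix 4 hs) (ok_of_fix 4 ht)).eq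
  Ttr := by
    intro y hy hy1 z hz hz1
    obtain ⟨a, ha, rfl⟩ := h.mem_gen_singleton.1 hy
    obtain ⟨b, hb, rfl⟩ := h.mem_gen_singleton.1 hz
    have ha' : σ a = a := ha (by decide)
    have hb' : σ b = b := hb (by decide)
    have ha0 : a ≠ 0 := fun e => hy1 (by rw [e, h.x_zero])
    have hb0 : b ≠ 0 := fun e => hz1 (by rw [e, h.x_zero])
    obtain ⟨s, hs⟩ := h.exists_sqrt (b * a⁻¹)
    have hs0 : s ≠ 0 := by
      rintro rfl
      rw [zero_mul] at hs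
      exact mul_ne_zero hb0 (inv_ne_zero ha0) hs.symm
    have hsf : σ s = s := h.sqrt_fix hs (by rw [map_mul, map_inv₀, ha', hb'])
    refine ⟨hh x 4 s, ⟨s, hsf, hs0, rfl⟩, ?_⟩
    rw [hh4_x4 h hsf hs0 ha', hs, mul_assoc, inv_mul_cancel₀ ha0, mul_one]
  big := by
    refine ⟨x 4 1, x_mem_gen (Set.mem_singleton _) (ok_one σ 4), x 4 ω,
      x_mem_gen (Set.mem_singleton _) (ok_of_fix 4 hω), ?_, ?_, ?_⟩
    · intro e
      rw [← h.x_zero 4] at e
      exact one_ne_zero ((h.x_inj (ok_one σ 4) (ok_of_fix 4 (map_zero σ))).1 e)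
    · intro e
      rw [← h.x_zero 4] at e
      exact hω0 ((h.x_inj (ok_of_fix 4 hω) (ok_of_fix 4 (map_zero σ))).1 e)
    · intro e
      exact hω1 ((h.x_inj (ok_one σ 4) (ok_of_fix 4 hω)).1 e).symm
  two := two
  k3 := by
    intro c hc hcP
    have hN : NotTwo σ := Or.inl ⟨ω, hω, fun e => by
      have e1 : ω * (ω - 1) = 0 := by linear_combination e
      rcases mul_eq_zero.1 e1 with h1 | h1
      · exact hω0 h1
      · exact hω1 (sub_eq_zero.1 h1)⟩
    obtain ⟨z, hz, hz'⟩ := aut_U h hN (normalises A hR hc) fun v hv => hcP v (arc_sub (by decide) hv)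
    exact ⟨z, hz, C1_of_cent (gen_mono (Set.subset_univ _) hz) A.comm hc hz'⟩
  k4 := by
    intro e _ _ hX hP
    obtain ⟨l, hlf, hl0, -, -, -, h4⟩ := exists_lam h hP hg hω hω0 hω1 hX
    refine ⟨hh x 4 l, ⟨l, hlf, hl0, rfl⟩, ?_⟩
    intro z hz
    obtain ⟨t, ht, rfl⟩ := h.mem_gen_singleton.1 hz
    rw [h4 t (ht (by decide)), hh4_x4 h hlf hl0 (ht (by decide))]
  B := fun y _ hP hX => exists_q h hP hX hg hω hω0 hω1

/-! ### `NorX` -/

theorem P_nor [Finite E] {k : G} (hk : k ∈ AA σ x) (hkX : cJ k (gen σ x {4}) = gen σ x {4}) :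
    ∃ p ∈ gen σ x (arc 1 7), ∃ t ∈ h.H, k = p * t := by
  have h1 : k * x 4 1 * k⁻¹ ∈ gen σ x {4} := by
    rw [← hkX]
    exact Cfsg.Agent.Nodes.Reps.conj_mem_cj.2 (x_mem_gen (Set.mem_singleton _) (ok_one σ 4))
  obtain ⟨t, ht, e⟩ := h.mem_gen_singleton.1 h1
  obtain ⟨p, hp, b, hb0, hb, -, e2⟩ := h.long_transport hk (map_one σ) (ht (by decide)) one_ne_zero e
  exact ⟨p, hp, _, h.hh6_mem_H hb0 hb, e2⟩

theorem norX [Finite E] : NorX (AA σ x) (gen σ x (arc 1 7)) (gen σ x {4}) (T0 h) where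
  nP := by
    intro k hk hkX
    obtain ⟨p, hp, t, ht, rfl⟩ := P_nor h hk hkX
    rw [Cfsg.Agent.Nodes.Reps.cj_mul, cJ_H h ht, Cfsg.Agent.Nodes.Reps.cj_eq_of_mem hp]
  nh := by
    intro k hk hkX g hg
    obtain ⟨p, hp, t, ht, rfl⟩ := P_nor h hk hkX
    have htg : t * g = g * t := (h.H_comm ht (T0_le_H h hg))
    have h1 := T0_P h (inv_mem hg) hp
    refine ⟨g⁻¹ * p * g⁻¹⁻¹ * p⁻¹, arc_sub (by decide) h1, ?_⟩
    calc p * t * g * (p * t)⁻¹ = p * (t * g) * t⁻¹ * p⁻¹ := by group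
      _ = p * g * p⁻¹ := by rw [htg]; group
      _ = g * (g⁻¹ * p * g⁻¹⁻¹ * p⁻¹) := by group

/-! ### `Q = O₂(P)`, `X₄ = Z(P)` -/

theorem core_le [Finite E] [Finite G] {D : Subgroup G} (hD : D ≤ gen σ x (arc 1 7)) (hD2 : IsPGroup 2 D)
    (hn : ∀ p ∈ gen σ x (arc 1 7), ∀ y ∈ D, p * y * p⁻¹ ∈ D) : D ≤ gen σ x (arc 2 5) := by
  obtain ⟨p, hp, hpD⟩ := h.sylow_conj (S := gen σ x (arc 1 7)) (arc_sub (by decide)) (gen_mono (Set.subset_univ _)) hD2 hD
  have hU : D ≤ UU σ x := by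
    intro y hy
    have h1 := hpD _ (hn p⁻¹ (inv_mem hp) y hy)
    have e : p * (p⁻¹ * y * p⁻¹⁻¹) * p⁻¹ = y := by group
    rwa [e] at h1
  intro y hy
  have hw : ∀ j a, Ok σ j a → nn x 1 * x j a * (nn x 1)⁻¹ = x (-1 * j + 8) a := by
    intro j a ha
    rw [h.refl1 j a ha]
    congr 1
    ring
  have h1 := h.mem_of_conj (w := nn x 1) (e := -1) (c := 8) (by decide) (Or.inr rfl) hw (hU hy)
    (hU (hn _ nn1_P y hy))
  refine gen_mono ?_ h1
  rintro k ⟨hk1, hk2⟩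
  have : ∀ k : ZMod 12, (k - 1).val < 6 → (-1 * k + 8 - 1).val < 6 → (k - 2).val < 5 := by decide
  exact this k hk1 hk2

theorem cj_of_cj_P [Finite E] [Finite G] {g : G} (hg : cJ g (gen σ x (arc 1 7)) = gen σ x (arc 1 7)) :
    cJ g (gen σ x (arc 2 5)) = gen σ x (arc 2 5) ∧ cJ g (gen σ x {4}) = gen σ x {4} := by
  have hQP : gen σ x (arc 2 5) ≤ gen σ x (arc 1 7) := arc_sub (by decide)
  have hXP : gen σ x {4} ≤ gen σ x (arc 1 7) := sing_le h (by decide)
  have inv_of : ∀ g : G, cJ g (gen σ x (arc 1 7)) = gen σ x (arc 1 7) →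
      cJ g⁻¹ (gen σ x (arc 1 7)) = gen σ x (arc 1 7) := by
    intro g hg
    conv_lhs => rw [← hg]
    exact Cfsg.Agent.Nodes.Reps.cj_inv_cj g _
  have key1 : ∀ g : G, cJ g (gen σ x (arc 1 7)) = gen σ x (arc 1 7) → cJ g (gen σ x {4}) ≤ gen σ x {4} := by
    intro g hg z hz
    rw [Cfsg.Agent.Nodes.Reps.mem_cj] at hz
    have hzP : z ∈ gen σ x (arc 1 7) := by
      rw [← hg, Cfsg.Agent.Nodes.Reps.mem_cj]
      exact hXP hz
    refine h.mem_X4_of (gen_mono (Set.subset_univ _) hzP) fun v hv => ?_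
    have h1 : g⁻¹ * v * g ∈ gen σ x (arc 1 7) := by
      rw [← Cfsg.Agent.Nodes.Reps.mem_cj, hg]; exact hQP hv
    have h2 := X4_P h hz h1
    change z * v = v * z
    calc z * v = g * ((g⁻¹ * z * g) * (g⁻¹ * v * g)) * g⁻¹ := by group
      _ = g * ((g⁻¹ * v * g) * (g⁻¹ * z * g)) * g⁻¹ := by rw [h2]
      _ = v * z := by group
  have key2 : ∀ g : G, cJ g (gen σ x (arc 1 7)) = gen σ x (arc 1 7) → cJ g (gen σ x (arc 2 5)) ≤ gen σ x (arc 2 5) := by
    intro g hg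
    refine core_le h ?_ ?_ ?_
    · rw [← hg]
      exact Cfsg.Agent.Nodes.Reps.cj_mono g hQP
    · have h1 : IsPGroup 2 (gen σ x (arc 2 5)) := h.isPGroup_U.to_le (arc_sub (by decide))
      exact h1.map _
    · intro p hp y hy
      rw [Cfsg.Agent.Nodes.Reps.mem_cj] at hy ⊢
      have h1 : g⁻¹ * p * g ∈ gen σ x (arc 1 7) := by
        rw [← Cfsg.Agent.Nodes.Reps.mem_cj, hg]; exact hp
      have e : g⁻¹ * (p * y * p⁻¹) * g = (g⁻¹ * p * g) * (g⁻¹ * y * g) * (g⁻¹ * p * g)⁻¹ := by group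
      rw [e]
      exact Cfsg.Agent.HexStart.P1_Q1 h h1 hy
  have eq_of : ∀ {S : Subgroup G}, cJ g S ≤ S → cJ g⁻¹ S ≤ S → cJ g S = S := by
    intro S h1 h2
    apply le_antisymm h1
    have := Cfsg.Agent.Nodes.Reps.cj_mono g h2
    rwa [Cfsg.Agent.Nodes.Reps.cj_cj_inv] at this
  exact ⟨eq_of (key2 g hg) (key2 _ (inv_of g hg)), eq_of (key1 g hg) (key1 _ (inv_of g hg))⟩

end Cfsg.Agent.OddHalf.DblR.HexK

end

-- merged: Cfsg.Agent.OddHalf.DblR.HexK.TriP
section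

/-!
# `G₂(q)`, `³D₄(q)`: `KTriP`

* `ktriP` : `KTriP` when the norms generate the fixed field as a ring.
-/

set_option autoImplicit false
set_option maxHeartbeats 400000

namespace Cfsg.Agent.OddHalf.DblR.HexK

open Subgroup Cfsg.Agent.StdRank2.Hex Cfsg.Agent.StdRank2.Hex.HexTwo Cfsg.Agent.SplitTwo
open scoped commutatorElement

local notation "cJ" => Cfsg.Agent.Nodes.Reps.cj

variable {E : Type*} [Field E] {σ : E ≃+* E} {G : Type*} [Group G] {x : ZMod 12 → E → G}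

/-- sums of norms -/
theorem mul_sum_nrm (s' : E) (l' : List E) (hl' : ∀ a ∈ l', a ≠ 0) (e' : s' = (l'.map (nrm σ)).sum) :
    ∀ l : List E, (∀ a ∈ l, a ≠ 0) → ∃ l₂ : List E, (∀ a ∈ l₂, a ≠ 0) ∧
      (l.map (nrm σ)).sum * s' = (l₂.map (nrm σ)).sum := by
  intro l
  induction l with
  | nil => exact fun _ => ⟨[], by simp, by simp⟩
  | cons a l ih =>
    intro hl
    obtain ⟨l₂, h1, h2⟩ := ih fun b hb => hl b (List.mem_cons_of_mem _ hb)
    have ha : a ≠ 0 := hl a List.mem_cons_self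
    refine ⟨l'.map (a * ·) ++ l₂, ?_, ?_⟩
    · intro b hb
      rcases List.mem_append.1 hb with hb | hb
      · obtain ⟨c, hc, rfl⟩ := List.mem_map.1 hb
        exact mul_ne_zero ha (hl' c hc)
      · exact h1 b hb
    · rw [List.map_cons, List.sum_cons, add_mul, List.map_append, List.sum_append, h2, List.map_map]
      congr 1
      have : (nrm σ ∘ fun x => a * x) = fun b => nrm σ a * nrm σ b := by
        funext b
        exact nrm_mul a b
      rw [this, List.sum_map_mul_left, e']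

theorem exists_list (two : (2 : E) = 0) {s : E} (hs : s ∈ Subring.closure {y | ∃ a, y = nrm σ a}) :
    ∃ l : List E, (∀ a ∈ l, a ≠ 0) ∧ s = (l.map (nrm σ)).sum := by
  induction hs using Subring.closure_induction with
  | mem y hy =>
    obtain ⟨a, rfl⟩ := hy
    by_cases ha : a = 0
    · subst ha
      exact ⟨[], by simp, by unfold nrm; simp⟩
    · exact ⟨[a], by simpa using ha, by simp⟩
  | zero => exact ⟨[], by simp, by simp⟩
  | one => exact ⟨[1], by simp, by simp [nrm_one]⟩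
  | add y z _ _ ihy ihz =>
    obtain ⟨l, h1, rfl⟩ := ihy
    obtain ⟨l', h1', rfl⟩ := ihz
    refine ⟨l ++ l', ?_, by rw [List.map_append, List.sum_append]⟩
    intro b hb
    rcases List.mem_append.1 hb with hb | hb
    · exact h1 b hb
    · exact h1' b hb
  | neg y _ ih =>
    obtain ⟨l, h1, h2⟩ := ih
    exact ⟨l, h1, by rw [← h2]; linear_combination -y * two⟩
  | mul y z _ _ ihy ihz =>
    obtain ⟨l, h1, rfl⟩ := ihy
    obtain ⟨l', h1', e'⟩ := ihz
    exact mul_sum_nrm z l' h1' e' l h1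

theorem NormGen.exists_ne (two : (2 : E) = 0) (hg : NormGen σ) {ω : E} (hω : σ ω = ω) (hω0 : ω ≠ 0) (hω1 : ω ≠ 1) :
    ∃ a, a ≠ 0 ∧ nrm σ a ≠ 1 := by
  by_contra hcon
  push Not at hcon
  obtain ⟨l, h1, h2⟩ := exists_list two (hg ω hω)
  have key : ∀ l : List E, (∀ a ∈ l, a ≠ 0) → (l.map (nrm σ)).sum = 0 ∨ (l.map (nrm σ)).sum = 1 := by
    intro l
    induction l with
    | nil => intro _; left; simp
    | cons a l ih =>
      intro hl
      rw [List.map_cons, List.sum_cons, hcon a (hl a List.mem_cons_self)]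
      rcases ih fun b hb => hl b (List.mem_cons_of_mem _ hb) with e | e
      · right; rw [e, add_zero]
      · left; rw [e]; linear_combination two
  rcases key l h1 with e | e
  · exact hω0 (h2.trans e)
  · exact hω1 (h2.trans e)

variable (h : HexTwo σ x)
include h

theorem exists_list_div (hg : NormGen σ) {b b' : E} (hb : σ b = b) (hb0 : b ≠ 0) (hb' : σ b' = b') :
    ∃ l : List E, (∀ a ∈ l, a ≠ 0) ∧ (l.map (nrm σ)).sum * b = b' := by
  obtain ⟨l, h1, h2⟩ := exists_list h.two (hg (b' * b⁻¹) (by rw [map_mul, map_inv₀, hb, hb']))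
  exact ⟨l, h1, by rw [← h2, mul_assoc, inv_mul_cancel₀ hb0, mul_one]⟩

theorem sum_nrm_fix (l : List E) : σ (l.map (nrm σ)).sum = (l.map (nrm σ)).sum := by
  induction l with
  | nil => simp
  | cons a l ih => rw [List.map_cons, List.sum_cons, map_add, ih, h.fix_nrm]

theorem lact_long [Finite E] {k j : ZMod 12} (hk : k.val % 2 = 1) (hj : j.val % 2 = 0) (hd : j - k = 1 ∨ j - k = 11)
    {b : E} (hb : σ b = b) : ∀ l : List E, (∀ a ∈ l, a ≠ 0) →
      lact (l.map (hh x k)) (x j b) = x j ((l.map (nrm σ)).sum * b) := by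
  intro l
  induction l with
  | nil => intro _; simp [lact_nil, h.x_zero]
  | cons a l ih =>
    intro hl
    rw [List.map_cons, lact_cons, ih fun c hc => hl c (List.mem_cons_of_mem _ hc),
      act_long h hk hj hd (hl a List.mem_cons_self) hb, List.map_cons, List.sum_cons, add_mul,
      h.add j _ _ (ok_of_fix j (by rw [map_mul, h.fix_nrm, hb])) (ok_of_fix j (by rw [map_mul, sum_nrm_fix h, hb]))]

theorem fpf_long [Finite E] {k j : ZMod 12} (hk : k.val % 2 = 1) (hj : j.val % 2 = 0) (hd : j - k = 1 ∨ j - k = 11)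
    {a : E} (ha : a ≠ 0) (ha1 : nrm σ a ≠ 1) : ∀ u ∈ gen σ x {j}, hh x k a * u = u * hh x k a → u = 1 := by
  intro u hu e
  obtain ⟨b, hb, rfl⟩ := h.mem_gen_singleton.1 hu
  have hb' : σ b = b := hb hj
  have h1 := act_long h hk hj hd ha hb'
  rw [e, mul_inv_cancel_right] at h1
  have h2 := (h.x_inj (ok_of_fix j hb') (ok_of_fix j (by rw [map_mul, h.fix_nrm, hb']))).1 h1
  have h3 : b = 0 := by
    by_contra hb0
    apply ha1
    have : (1 : E) * b = nrm σ a * b := by rw [one_mul]; exact h2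
    exact (mul_right_cancel₀ hb0 this).symm
  rw [h3, h.x_zero]

theorem cen_perp [Finite E] {k j : ZMod 12} (hd : j - k = 3 ∨ j - k = 9) {a : E} (ha : a ≠ 0) (hok : Ok σ k a) :
    ∀ u ∈ gen σ x {j}, hh x k a * u = u * hh x k a := by
  intro u hu
  obtain ⟨b, hb, rfl⟩ := h.mem_gen_singleton.1 hu
  exact mul_inv_eq_iff_eq_mul.1 (act_perp h hd ha hok hb)

theorem trans_self [Finite E] {j : ZMod 12} (hj : j.val % 2 = 0) : ∀ u ∈ gen σ x {j}, u ≠ 1 → ∀ u' ∈ gen σ x {j}, u' ≠ 1 →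
    ∃ t ∈ h.H, t * u * t⁻¹ = u' := by
  intro u hu hu1 u' hu' hu1'
  obtain ⟨b, hb, rfl⟩ := h.mem_gen_singleton.1 hu
  obtain ⟨b', hb', rfl⟩ := h.mem_gen_singleton.1 hu'
  have hb0 : b ≠ 0 := fun e => hu1 (by rw [e, h.x_zero])
  have hb0' : b' ≠ 0 := fun e => hu1' (by rw [e, h.x_zero])
  obtain ⟨s, hs⟩ := h.exists_sqrt (b' * b⁻¹)
  have hs0 : s ≠ 0 := by
    rintro rfl
    rw [zero_mul] at hs
    exact mul_ne_zero hb0' (inv_ne_zero hb0) hs.symm
  have hsf : σ s = s := h.sqrt_fix hs (by rw [map_mul, map_inv₀, hb hj, hb' hj])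
  refine ⟨hh x j s, h.hh_mem_H j hs0 (ok_of_fix j hsf), ?_⟩
  rw [h.tor j j hs0 (ok_of_fix j hsf) hb, sub_self, ch_zero_right, pow_two, hs, mul_assoc, inv_mul_cancel₀ hb0, mul_one]

/-- **The product version.** -/
theorem ktriP [Finite E] [Finite G] (hg : NormGen σ) {R : Subgroup G} (A : Amb (AA σ x) R) (hR : ∃ t ∈ R, t ≠ 1)
    {ω : E} (hω : σ ω = ω) (hω0 : ω ≠ 0) (hω1 : ω ≠ 1) (hN : NotTwo σ) :
    KTriP (AA σ x) R h.H (gen σ x {2}) (gen σ x {6}) (gen σ x {4}) (gen σ x (arc 11 7)) (gen σ x (arc 3 7))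
      (gen σ x (arc 1 7)) (gen σ x (arc 1 5)) (gen σ x (arc 3 5)) (gen σ x (arc 3 3)) (nn x 6) (nn x 2) where
  XrPd := sing_le h (by decide)
  XsPd := sing_le h (by decide)
  XdPr := sing_le h (by decide)
  XdPs := sing_le h (by decide)
  TK := H_le h
  Tab := fun a ha b hb => (h.H_comm ha hb).eq
  Todd := fun a ha => H_odd h ha
  TXr := fun a ha => cJ_H h ha _
  TXs := fun a ha => cJ_H h ha _
  TXd := fun a ha => cJ_H h ha _
  nK := nn_mem_AA h 6
  nX := cJ_nn h 6 (by rintro _ rfl; decide) (by rintro _ rfl; decide)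
  mK := nn_mem_AA h 2
  mX := cJ_nn h 2 (by rintro _ rfl; decide) (by rintro _ rfl; decide)
  Ttr := trans_self h (by decide)
  Tts := trans_self h (by decide)
  trr := by
    intro u hu hu1 u' hu'
    obtain ⟨b, hb, rfl⟩ := h.mem_gen_singleton.1 hu
    obtain ⟨b', hb', rfl⟩ := h.mem_gen_singleton.1 hu'
    have hb0 : b ≠ 0 := fun e => hu1 (by rw [e, h.x_zero])
    obtain ⟨l, hl, e⟩ := exists_list_div h hg (hb (by decide)) hb0 (hb' (by decide))
    refine ⟨l.map (hh x 3), ?_, by rw [lact_long h (by decide) (by decide) (Or.inr (by decide)) (hb (by decide)) l hl, e]⟩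
    intro g hg
    obtain ⟨a, ha, rfl⟩ := List.mem_map.1 hg
    exact ⟨h.hh_mem_H 3 (hl a ha) (ok_odd (by decide) a),
      cen_perp h (Or.inl (by decide)) (hl a ha) (ok_odd (by decide) a),
      comm_nn_hh h 6 3 (by decide) (ok_odd (by decide) a)⟩
  trs := by
    intro u hu hu1 u' hu'
    obtain ⟨b, hb, rfl⟩ := h.mem_gen_singleton.1 hu
    obtain ⟨b', hb', rfl⟩ := h.mem_gen_singleton.1 hu'
    have hb0 : b ≠ 0 := fun e => hu1 (by rw [e, h.x_zero])
    obtain ⟨l, hl, e⟩ := exists_list_div h hg (hb (by decide)) hb0 (hb' (by decide))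
    refine ⟨l.map (hh x 5), ?_, by rw [lact_long h (by decide) (by decide) (Or.inl (by decide)) (hb (by decide)) l hl, e]⟩
    intro g hg
    obtain ⟨a, ha, rfl⟩ := List.mem_map.1 hg
    exact ⟨h.hh_mem_H 5 (hl a ha) (ok_odd (by decide) a),
      cen_perp h (Or.inr (by decide)) (hl a ha) (ok_odd (by decide) a),
      comm_nn_hh h 2 5 (by decide) (ok_odd (by decide) a)⟩
  k1r := by
    obtain ⟨a, ha, ha1⟩ := hg.exists_ne h.two hω hω0 hω1
    exact ⟨hh x 3 a, h.hh_mem_H 3 ha (ok_odd (by decide) a), cen_perp h (Or.inl (by decide)) ha (ok_odd (by decide) a),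
      fpf_long h (by decide) (by decide) (Or.inr (by decide)) ha ha1,
      fpf_long h (by decide) (by decide) (Or.inl (by decide)) ha ha1⟩
  k1s := by
    obtain ⟨a, ha, ha1⟩ := hg.exists_ne h.two hω hω0 hω1
    exact ⟨hh x 5 a, h.hh_mem_H 5 ha (ok_odd (by decide) a), cen_perp h (Or.inr (by decide)) ha (ok_odd (by decide) a),
      fpf_long h (by decide) (by decide) (Or.inl (by decide)) ha ha1,
      fpf_long h (by decide) (by decide) (Or.inr (by decide)) ha ha1⟩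
  k3r := by
    obtain ⟨a, ha, ha1⟩ := hg.exists_ne h.two hω hω0 hω1
    exact ⟨hh x 1 a, h.hh_mem_H 1 ha (ok_odd (by decide) a), cen_perp h (Or.inl (by decide)) ha (ok_odd (by decide) a),
      fpf_long h (by decide) (by decide) (Or.inl (by decide)) ha ha1⟩
  k3s := by
    obtain ⟨a, ha, ha1⟩ := hg.exists_ne h.two hω hω0 hω1
    exact ⟨hh x 7 a, h.hh_mem_H 7 ha (ok_odd (by decide) a), cen_perp h (Or.inr (by decide)) ha (ok_odd (by decide) a),
      fpf_long h (by decide) (by decide) (Or.inr (by decide)) ha ha1⟩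
  cmX := by
    intro u hu v hv
    obtain ⟨b, t, hb, ht, -, -, e⟩ := commX h u v hu hv
    rw [e]
    exact x_mem_gen (Set.mem_singleton _) (ok_of_fix 4 (by rw [map_mul, hb, ht]))
  nd := by
    intro u hu v hv huv
    obtain ⟨b, t, hb, ht, e2, e6, e⟩ := commX h u v hu hv
    have h1 : x 4 (b * t) = 1 := by
      rw [← e, huv]
      group
    rcases mul_eq_zero.1 ((h.x_eq_one (k := 4) (ok_of_fix 4 (by rw [map_mul, hb, ht]))).1 h1) with h0 | h0
    · left; rw [e2, h0, h.x_zero]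
    · right; rw [e6, h0, h.x_zero]
  big := by
    refine ⟨x 2 1, x_mem_gen (Set.mem_singleton _) (ok_one σ 2), x 2 ω, x_mem_gen (Set.mem_singleton _) (ok_of_fix 2 hω),
      ?_, ?_, ?_⟩
    · rw [Ne, h.x_eq_one (ok_one σ 2)]; exact one_ne_zero
    · rw [Ne, h.x_eq_one (ok_of_fix 2 hω)]; exact hω0
    · rw [Ne, h.x_inj (ok_one σ 2) (ok_of_fix 2 hω)]; exact hω1.symm
  disr := fun u h1 h2 => disj h (by decide) h1 h2
  diss := fun u h1 h2 => disj h (by decide) h1 h2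
  YrPr := arc_sub (by decide)
  YrPd := arc_sub (by decide)
  YrN := fun u hu y hy => norm_conj_X6 h hy hu
  K2r := by
    intro c hc hcY
    obtain ⟨z, hz, hz'⟩ := aut_Q2 h hN (normalises A hR hc) hcY
    have hzA : z ∈ AA σ x := gen_mono (Set.subset_univ _) hz
    obtain ⟨u, hu, v, hv, rfl⟩ := mem_pair h (k := 2) (l := 4) (by decide) (by decide) hz
    exact ⟨u, hu, v, hv, C1_of_cent hzA A.comm hc hz'⟩
  YsPs := arc_sub (by decide)
  YsPd := arc_sub (by decide)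
  YsN := fun u hu y hy => norm_conj_X2 h hy hu
  K2s := by
    intro c hc hcY
    obtain ⟨z, hz, hz'⟩ := aut_Q2' h hN (normalises A hR hc) hcY
    have hzA : z ∈ AA σ x := gen_mono (Set.subset_univ _) hz
    obtain ⟨u, hu, v, hv, rfl⟩ := mem_pair h (k := 4) (l := 6) (by decide) (by decide) hz
    refine ⟨v, hv, u, hu, ?_⟩
    have huv : u * v = v * u := by
      obtain ⟨b, hb, rfl⟩ := h.mem_gen_singleton.1 hu
      obtain ⟨t, ht, rfl⟩ := h.mem_gen_singleton.1 hv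
      exact (h.comm_long (k := 4) (by decide) (by decide) hb ht).eq
    rw [← huv]
    exact C1_of_cent hzA A.comm hc hz'
  YPr := arc_sub (by decide)
  YPs := arc_sub (by decide)
  YPd := arc_sub (by decide)
  K1 := by
    intro c hc h2 h6 hY
    have hQ : gen σ x (arc 2 5) ≤ centralizer ({c} : Set G) := by
      refine gen26 h ?_ ?_ ?_ <;>
      · intro v hv
        rw [mem_centralizer_iff]
        rintro _ rfl
        first | exact h2 v hv | exact h6 v hv | exact hY v hv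
    obtain ⟨z, hz, hz'⟩ := aut_Q1 h hN (normalises A hR hc) fun v hv =>
      mem_centralizer_iff.1 (hQ hv) c (Set.mem_singleton c)
    exact ⟨z, hz, C1_of_cent (gen_mono (Set.subset_univ _) hz) A.comm hc hz'⟩

end Cfsg.Agent.OddHalf.DblR.HexK

end
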