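import Cfsg.Agent.OddHalf.DblR.HexK.AutForm
import Cfsg.Agent.OddHalf.DblR.Fam
import Cfsg.Agent.HexStart.HexLong
import Cfsg.Agent.HexStart.HexComm

-- merged: Cfsg.Agent.OddHalf.DblR.HexK.Tri
section

/-!
# `G₂(q)`, `³D₄(q)`: `KTri`

The long roots `2`, `6` and `4 = 2 + 6`. `Amb (AA σ x) R`, `R ≠ 1`.
* `ktri` : `KTri` when the norm is onto (`³D₄(q)`, and `G₂(q)` for `3 ∤ q - 1`).
-/

set_option autoImplicit false
set_option maxHeartbeats 400000

namespace Cfsg.Agent.OddHalf.DblR.HexK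

open Subgroup Cfsg.Agent.StdRank2.Hex Cfsg.Agent.StdRank2.Hex.HexTwo Cfsg.Agent.SplitTwo
open scoped commutatorElement

local notation "cJ" => Cfsg.Agent.Nodes.Reps.cj

variable {E : Type*} [Field E] {σ : E ≃+* E} {G : Type*} [Group G] {x : ZMod 12 → E → G}

theorem cJ_eq {g : G} {S S' : Subgroup G} (h1 : ∀ y ∈ S, g * y * g⁻¹ ∈ S') (h2 : ∀ y ∈ S', g⁻¹ * y * g ∈ S) :
    cJ g S = S' := by
  ext y
  rw [Cfsg.Agent.Nodes.Reps.mem_cj]
  refine ⟨fun hy => ?_, h2 y⟩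
  have := h1 _ hy
  have e : g * (g⁻¹ * y * g) * g⁻¹ = y := by group
  rwa [e] at this

theorem C1_of_cent {K R : Subgroup G} {z c : G} (hzK : z ∈ K) (hKR : ∀ t ∈ R, ∀ k ∈ K, t * k = k * t)
    (hc : ∀ a ∈ R, c * a = a * c) (h : z⁻¹ * c ∈ centralizer (K : Set G)) : z⁻¹ * c ∈ C1 K R := by
  rw [mem_C1]
  refine ⟨fun k hk => (mem_centralizer_iff.1 h k hk).symm, fun t ht => ?_⟩
  have h1 := hKR t ht z⁻¹ (inv_mem hzK)
  calc z⁻¹ * c * t = z⁻¹ * (c * t) := by group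
    _ = (z⁻¹ * t) * c := by rw [hc t ht]; group
    _ = t * (z⁻¹ * c) := by rw [← h1]; group

theorem normalises {K R : Subgroup G} (A : Amb K R) (hR : ∃ t ∈ R, t ≠ 1) {c : G} (hc : ∀ a ∈ R, c * a = a * c) :
    ∀ v ∈ K, c * v * c⁻¹ ∈ K := by
  obtain ⟨t, ht, ht1⟩ := hR
  exact A.nor t ht ht1 c (hc t ht)

variable (h : HexTwo σ x)
include h

theorem cJ_nn (c : ZMod 12) {S S' : Set (ZMod 12)} (h1 : ∀ l ∈ S, 2 * c + 6 - l ∈ S')
    (h2 : ∀ l ∈ S', 2 * c + 6 - l ∈ S) : cJ (nn x c) (gen σ x S) = gen σ x S' := by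
  refine cJ_eq (fun y hy => h.nn_conj_gen c h1 hy) fun y hy => ?_
  have := h.nn_conj_gen c h2 hy
  rwa [h.nn_inv] at this ⊢

theorem cJ_H [Finite E] {t : G} (ht : t ∈ h.H) (S : Set (ZMod 12)) : cJ t (gen σ x S) = gen σ x S := by
  refine cJ_eq (fun y hy => h.H_conj_gen ht S hy) fun y hy => ?_
  have := h.H_conj_gen (h.H.inv_mem ht) S hy
  rwa [inv_inv] at this

theorem nn_mem_AA (c : ZMod 12) : nn x c ∈ AA σ x := nn_mem_gen (Set.mem_univ _) (Set.mem_univ _)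

theorem H_le [Finite E] : h.H ≤ AA σ x := by
  rintro g ⟨s, t, -, -, ht, rfl⟩
  exact mul_mem (hh_mem_gen (Set.mem_univ _) (Set.mem_univ _) (ok_odd (by decide) s))
    (hh_mem_gen (Set.mem_univ _) (Set.mem_univ _) (ok_of_fix 6 ht))

theorem H_odd [Finite E] {g : G} (hg : g ∈ h.H) : ∃ l : ℕ, Odd l ∧ g ^ l = 1 := by
  refine ⟨Nat.card E - 1, ?_, h.H_pow hg⟩
  obtain ⟨n, hn, e⟩ := h.exists_card
  rw [e]
  obtain ⟨m, rfl⟩ : ∃ m, n = m + 1 := ⟨n - 1, by omega⟩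
  rw [pow_succ]
  exact ⟨2 ^ m - 1, by have : 1 ≤ 2 ^ m := Nat.one_le_two_pow; omega⟩

/-- the torus elements of a short root centralising the long root at distance three -/
theorem act_long [Finite E] {k j : ZMod 12} (hk : k.val % 2 = 1) (hj : j.val % 2 = 0) (hd : j - k = 1 ∨ j - k = 11)
    {s : E} (hs : s ≠ 0) {b : E} (hb : σ b = b) :
    hh x k s * x j b * (hh x k s)⁻¹ = x j (nrm σ s * b) := by
  rw [h.tor k j hs (ok_odd hk s) (ok_of_fix j hb)]
  have hk' : ¬ k.val % 2 = 0 := by omega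
  unfold ch
  rw [if_neg hk']
  rcases hd with e | e <;> rw [e] <;> rfl

theorem act_perp [Finite E] {k j : ZMod 12} (hd : j - k = 3 ∨ j - k = 9) {s : E} (hs : s ≠ 0) (hok : Ok σ k s)
    {b : E} (hb : Ok σ j b) : hh x k s * x j b * (hh x k s)⁻¹ = x j b := by
  rw [h.tor k j hs hok hb]
  have : ch σ k (j - k) s = 1 := by
    unfold ch
    split_ifs
    · rcases hd with e | e <;> rw [e] <;> rfl
    · rcases hd with e | e <;> rw [e] <;> rfl
  rw [this, one_mul]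

theorem comm_nn_hh (c k : ZMod 12) (hck : 2 * c + 6 - k = k) {s : E} (hok : Ok σ k s) :
    hh x k s * nn x c = nn x c * hh x k s := by
  have := h.conj_nn_hh c k hok
  rw [hck] at this
  exact (mul_inv_eq_iff_eq_mul.1 this).symm

theorem commX (x2 y6 : G) (hx : x2 ∈ gen σ x {2}) (hy : y6 ∈ gen σ x {6}) :
    ∃ b t, σ b = b ∧ σ t = t ∧ x2 = x 2 b ∧ y6 = x 6 t ∧ x2 * y6 * x2⁻¹ * y6⁻¹ = x 4 (b * t) := by
  obtain ⟨b, hb, rfl⟩ := h.mem_gen_singleton.1 hx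
  obtain ⟨t, ht, rfl⟩ := h.mem_gen_singleton.1 hy
  have hb' : σ b = b := hb (by decide)
  have ht' : σ t = t := ht (by decide)
  refine ⟨b, t, hb', ht', rfl, rfl, ?_⟩
  have := h.commL4 (k := 2) (by decide) hb' ht'
  rw [commutatorElement_def] at this
  exact this

theorem norm_conj_X6 {y : G} (hy : y ∈ gen σ x (arc 1 5)) {u : G} (hu : u ∈ gen σ x {6}) :
    u * y * u⁻¹ ∈ gen σ x (arc 1 5) := by
  obtain ⟨t, ht, rfl⟩ := h.mem_gen_singleton.1 hu
  have e : (1 : ZMod 12) + ((5 : ℕ) : ZMod 12) = 6 := by decide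
  have := h.conj_last (k := 1) (n := 5) le_rfl (b := t) (by rw [e]; exact ht) hy
  rwa [e] at this

theorem norm_conj_X2 {y : G} (hy : y ∈ gen σ x (arc 3 5)) {u : G} (hu : u ∈ gen σ x {2}) :
    u * y * u⁻¹ ∈ gen σ x (arc 3 5) := by
  obtain ⟨t, ht, rfl⟩ := h.mem_gen_singleton.1 hu
  exact h.conj_first (k := 2) (n := 5) le_rfl ht hy

/-- the shifted version of `aut_Q2` -/
theorem aut_Q2' [Finite E] [Finite G] (hN : NotTwo σ) {c : G} (hc : ∀ v ∈ AA σ x, c * v * c⁻¹ ∈ AA σ x)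
    (hQ : ∀ v ∈ gen σ x (arc 3 5), c * v = v * c) :
    ∃ z ∈ gen σ x {4, 6}, z⁻¹ * c ∈ centralizer (AA σ x : Set G) := by
  have h' := h.shift (c := 2) (by decide)
  have eA : AA σ (fun j => x (j + 2)) = AA σ x := AA_shift 2 (by decide)
  obtain ⟨z, hz, hz'⟩ := aut_Q2 h' hN (c := c) (by rw [eA]; exact hc) (by
    intro v hv
    rw [gen_shift_arc 2 (by decide)] at hv
    exact hQ v hv)
  rw [eA] at hz'
  refine ⟨z, ?_, hz'⟩
  rw [gen_shift 2 (by decide)] at hz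
  refine gen_mono (fun l hl => ?_) hz
  have : ∀ l : ZMod 12, l - 2 = 2 ∨ l - 2 = 4 → l = 4 ∨ l = 6 := by decide
  exact this l hl

theorem mem_pair {k l : ZMod 12} (hkl : l = k + 2) (hk : k.val % 2 = 0) {z : G} (hz : z ∈ gen σ x {k, l}) :
    ∃ u ∈ gen σ x {k}, ∃ v ∈ gen σ x {l}, z = u * v := by
  have hl : l.val % 2 = 0 := by
    subst hkl
    have : ∀ k : ZMod 12, k.val % 2 = 0 → (k + 2).val % 2 = 0 := by decide
    exact this k hk
  have hc : ∀ u ∈ gen σ x {k}, ∀ v ∈ gen σ x {l}, Commute u v := by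
    intro u hu v hv
    obtain ⟨b, hb, rfl⟩ := h.mem_gen_singleton.1 hu
    obtain ⟨t, ht, rfl⟩ := h.mem_gen_singleton.1 hv
    refine h.comm_long hk ?_ hb ht
    subst hkl
    have : ∀ k : ZMod 12, (k + 2 - (k - 3)).val < 7 := by decide
    exact this k
  refine Subgroup.closure_induction (p := fun z _ => ∃ u ∈ gen σ x {k}, ∃ v ∈ gen σ x {l}, z = u * v) ?_ ?_ ?_ ?_ hz
  · rintro _ ⟨j, hj, a, ha, rfl⟩
    rcases hj with rfl | hj
    · exact ⟨x j a, x_mem_gen (Set.mem_singleton _) ha, 1, one_mem _, by rw [mul_one]⟩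
    · rw [Set.mem_singleton_iff] at hj
      subst hj
      exact ⟨1, one_mem _, x j a, x_mem_gen (Set.mem_singleton _) ha, by rw [one_mul]⟩
  · exact ⟨1, one_mem _, 1, one_mem _, by rw [one_mul]⟩
  · rintro _ _ - - ⟨u, hu, v, hv, rfl⟩ ⟨u', hu', v', hv', rfl⟩
    refine ⟨u * u', mul_mem hu hu', v * v', mul_mem hv hv', ?_⟩
    have := (hc u' hu' v hv).eq
    calc u * v * (u' * v') = u * (v * u') * v' := by group
      _ = u * u' * (v * v') := by rw [← this]; group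
  · rintro _ - ⟨u, hu, v, hv, rfl⟩
    refine ⟨u⁻¹, inv_mem hu, v⁻¹, inv_mem hv, ?_⟩
    rw [(hc u hu v hv).eq, mul_inv_rev]

omit h in
theorem arc_sub {k l : ZMod 12} {m n : ℕ} (H : ∀ j : ZMod 12, (j - k).val < m → (j - l).val < n) :
    gen σ x (arc k m) ≤ gen σ x (arc l n) := gen_mono fun j hj => H j hj

theorem sing_le {k l : ZMod 12} {n : ℕ} (H : (k - l).val < n) : gen σ x {k} ≤ gen σ x (arc l n) :=
  gen_mono fun j hj => by
    rw [Set.mem_singleton_iff] at hj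
    subst hj
    exact H

theorem disj {k l : ZMod 12} (hkl : k ≠ l) {y : G} (h1 : y ∈ gen σ x {k}) (h2 : y ∈ gen σ x {l}) : y = 1 := by
  obtain ⟨a, ha, rfl⟩ := h.mem_gen_singleton.1 h1
  obtain ⟨b, hb, e⟩ := h.mem_gen_singleton.1 h2
  by_contra hne
  have ha0 : a ≠ 0 := fun e0 => hne (by rw [e0, h.x_zero])
  exact hkl (h.root_unique ha hb ha0 e)

/-- `K1` of `KTri` -/
theorem gen26 {S : Subgroup G} (h2 : gen σ x {2} ≤ S) (h6 : gen σ x {6} ≤ S) (hY : gen σ x (arc 3 3) ≤ S) :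
    gen σ x (arc 2 5) ≤ S := by
  refine gen_le fun k hk a ha => ?_
  have : ∀ k : ZMod 12, (k - 2).val < 5 → k = 2 ∨ k = 6 ∨ (k - 3).val < 3 := by decide
  rcases this k hk with rfl | rfl | h3
  · exact h2 (x_mem_gen (Set.mem_singleton _) ha)
  · exact h6 (x_mem_gen (Set.mem_singleton _) ha)
  · exact hY (x_mem_gen h3 ha)

/-- **`KTri`** when the norm is onto. -/
theorem ktri [Finite E] [Finite G] (hN : NotTwo σ) {R : Subgroup G} (A : Amb (AA σ x) R) (hR : ∃ t ∈ R, t ≠ 1)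
    {ω : E} (hω : σ ω = ω) (hω0 : ω ≠ 0) (hω1 : ω ≠ 1)
    (hnorm : ∀ b : E, σ b = b → b ≠ 0 → ∃ s, s ≠ 0 ∧ nrm σ s = b) :
    KTri (AA σ x) R h.H (gen σ x {2}) (gen σ x {6}) (gen σ x {4}) (gen σ x (arc 11 7)) (gen σ x (arc 3 7))
      (gen σ x (arc 1 7)) (gen σ x (arc 1 5)) (gen σ x (arc 3 5)) (gen σ x (arc 3 3)) (nn x 6) (nn x 2) where
  XrPd := sing_le h (by decide)
  XsPd := sing_le h (by decide)
  XdPr := sing_le h (by decide)
  XdPs := sing_le h (by decide)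
  TK := H_le h
  Tab := fun a ha b hb => (h.H_comm ha hb).eq
  Todd := fun a ha => H_odd h ha
  TXr := fun a ha => cJ_H h ha _
  TXs := fun a ha => cJ_H h ha _
  TXd := fun a ha => cJ_H h ha _
  nK := nn_mem_AA h 6
  nX := cJ_nn h 6 (by rintro _ rfl; decide) (by rintro _ rfl; decide)
  mK := nn_mem_AA h 2
  mX := cJ_nn h 2 (by rintro _ rfl; decide) (by rintro _ rfl; decide)
  trr := by
    intro u hu hu1 u' hu' hu1'
    obtain ⟨b, hb, rfl⟩ := h.mem_gen_singleton.1 hu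
    obtain ⟨b', hb', rfl⟩ := h.mem_gen_singleton.1 hu'
    have hb0 : b ≠ 0 := fun e => hu1 (by rw [e, h.x_zero])
    have hb0' : b' ≠ 0 := fun e => hu1' (by rw [e, h.x_zero])
    have hbf : σ b = b := hb (by decide)
    have hbf' : σ b' = b' := hb' (by decide)
    obtain ⟨s, hs, e⟩ := hnorm (b' * b⁻¹) (by rw [map_mul, map_inv₀, hbf, hbf']) (mul_ne_zero hb0' (inv_ne_zero hb0))
    refine ⟨hh x 3 s, h.hh_mem_H 3 hs (ok_odd (by decide) s), ?_, comm_nn_hh h 6 3 (by decide) (ok_odd (by decide) s), ?_⟩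
    · intro y hy
      obtain ⟨t, ht, rfl⟩ := h.mem_gen_singleton.1 hy
      exact mul_inv_eq_iff_eq_mul.1 (act_perp h (k := 3) (j := 6) (Or.inl (by decide)) hs (ok_odd (by decide) s) ht)
    · rw [act_long h (k := 3) (j := 2) (by decide) (by decide) (Or.inr (by decide)) hs hbf, e, mul_assoc,
        inv_mul_cancel₀ hb0, mul_one]
  trs := by
    intro u hu hu1 u' hu' hu1'
    obtain ⟨b, hb, rfl⟩ := h.mem_gen_singleton.1 hu
    obtain ⟨b', hb', rfl⟩ := h.mem_gen_singleton.1 hu'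
    have hb0 : b ≠ 0 := fun e => hu1 (by rw [e, h.x_zero])
    have hb0' : b' ≠ 0 := fun e => hu1' (by rw [e, h.x_zero])
    have hbf : σ b = b := hb (by decide)
    have hbf' : σ b' = b' := hb' (by decide)
    obtain ⟨s, hs, e⟩ := hnorm (b' * b⁻¹) (by rw [map_mul, map_inv₀, hbf, hbf']) (mul_ne_zero hb0' (inv_ne_zero hb0))
    refine ⟨hh x 5 s, h.hh_mem_H 5 hs (ok_odd (by decide) s), ?_, comm_nn_hh h 2 5 (by decide) (ok_odd (by decide) s), ?_⟩
    · intro y hy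
      obtain ⟨t, ht, rfl⟩ := h.mem_gen_singleton.1 hy
      exact mul_inv_eq_iff_eq_mul.1 (act_perp h (k := 5) (j := 2) (Or.inr (by decide)) hs (ok_odd (by decide) s) ht)
    · rw [act_long h (k := 5) (j := 6) (by decide) (by decide) (Or.inl (by decide)) hs hbf, e, mul_assoc,
        inv_mul_cancel₀ hb0, mul_one]
  cmX := by
    intro u hu v hv
    obtain ⟨b, t, hb, ht, -, -, e⟩ := commX h u v hu hv
    rw [e]
    exact x_mem_gen (Set.mem_singleton _) (ok_of_fix 4 (by rw [map_mul, hb, ht]))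
  nd := by
    intro u hu v hv huv
    obtain ⟨b, t, hb, ht, e2, e6, e⟩ := commX h u v hu hv
    have h1 : x 4 (b * t) = 1 := by
      rw [← e, huv]
      group
    rcases mul_eq_zero.1 ((h.x_eq_one (k := 4) (ok_of_fix 4 (by rw [map_mul, hb, ht]))).1 h1) with h0 | h0
    · left; rw [e2, h0, h.x_zero]
    · right; rw [e6, h0, h.x_zero]
  big := by
    refine ⟨x 2 1, x_mem_gen (Set.mem_singleton _) (ok_one σ 2), x 2 ω, x_mem_gen (Set.mem_singleton _) (ok_of_fix 2 hω),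
      ?_, ?_, ?_⟩
    · rw [Ne, h.x_eq_one (ok_one σ 2)]; exact one_ne_zero
    · rw [Ne, h.x_eq_one (ok_of_fix 2 hω)]; exact hω0
    · rw [Ne, h.x_inj (ok_one σ 2) (ok_of_fix 2 hω)]; exact hω1.symm
  disr := fun u h1 h2 => disj h (by decide) h1 h2
  diss := fun u h1 h2 => disj h (by decide) h1 h2
  YrPr := arc_sub (by decide)
  YrPd := arc_sub (by decide)
  YrN := fun u hu y hy => norm_conj_X6 h hy hu
  K2r := by
    intro c hc hcY
    obtain ⟨z, hz, hz'⟩ := aut_Q2 h hN (normalises A hR hc) hcY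
    have hzA : z ∈ AA σ x := gen_mono (Set.subset_univ _) hz
    obtain ⟨u, hu, v, hv, rfl⟩ := mem_pair h (k := 2) (l := 4) (by decide) (by decide) hz
    exact ⟨u, hu, v, hv, C1_of_cent hzA A.comm hc hz'⟩
  YsPs := arc_sub (by decide)
  YsPd := arc_sub (by decide)
  YsN := fun u hu y hy => norm_conj_X2 h hy hu
  K2s := by
    intro c hc hcY
    obtain ⟨z, hz, hz'⟩ := aut_Q2' h hN (normalises A hR hc) hcY
    have hzA : z ∈ AA σ x := gen_mono (Set.subset_univ _) hz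
    obtain ⟨u, hu, v, hv, rfl⟩ := mem_pair h (k := 4) (l := 6) (by decide) (by decide) hz
    refine ⟨v, hv, u, hu, ?_⟩
    have huv : u * v = v * u := by
      obtain ⟨b, hb, rfl⟩ := h.mem_gen_singleton.1 hu
      obtain ⟨t, ht, rfl⟩ := h.mem_gen_singleton.1 hv
      exact (h.comm_long (k := 4) (by decide) (by decide) hb ht).eq
    rw [← huv]
    exact C1_of_cent hzA A.comm hc hz'
  YPr := arc_sub (by decide)
  YPs := arc_sub (by decide)
  YPd := arc_sub (by decide)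
  K1 := by
    intro c hc h2 h6 hY
    have hQ : gen σ x (arc 2 5) ≤ centralizer ({c} : Set G) := by
      refine gen26 h ?_ ?_ ?_ <;>
      · intro v hv
        rw [mem_centralizer_iff]
        rintro _ rfl
        first | exact h2 v hv | exact h6 v hv | exact hY v hv
    obtain ⟨z, hz, hz'⟩ := aut_Q1 h hN (normalises A hR hc) fun v hv =>
      mem_centralizer_iff.1 (hQ hv) c (Set.mem_singleton c)
    exact ⟨z, hz, C1_of_cent (gen_mono (Set.subset_univ _) hz) A.comm hc hz'⟩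

end Cfsg.Agent.OddHalf.DblR.HexK

end

-- merged: Cfsg.Agent.OddHalf.DblR.HexK.Co
section

/-!
# `G₂(q)`, `³D₄(q)`: coordinates on `Q₁ / X₄`

`Co σ x v b c e f` : `v ∈ Q₁ = X₂X₃X₄X₅X₆` has coordinates `b c e f` modulo `X₄`.
-/

set_option autoImplicit false
set_option maxHeartbeats 400000

namespace Cfsg.Agent.OddHalf.DblR.HexK

open Subgroup Cfsg.Agent.StdRank2.Hex Cfsg.Agent.StdRank2.Hex.HexTwo Cfsg.Agent.SplitTwo
open scoped commutatorElement

variable {E : Type*} [Field E] {σ : E ≃+* E} {G : Type*} [Group G] {x : ZMod 12 → E → G}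

/-- coordinates of `v` modulo `X₄` -/
def Co (σ : E ≃+* E) (x : ZMod 12 → E → G) (v : G) (b c e f : E) : Prop :=
  σ b = b ∧ σ f = f ∧ ∃ d, σ d = d ∧ v = q x b c d e f

theorem Co.mem {v : G} {b c e f : E} (hv : Co σ x v b c e f) : v ∈ gen σ x (arc 2 5) := by
  obtain ⟨hb, hf, d, hd, rfl⟩ := hv
  exact q_mem hb hd hf

variable (h : HexTwo σ x)
include h

theorem exists_co {v : G} (hv : v ∈ gen σ x (arc 2 5)) : ∃ b c e f, Co σ x v b c e f := by
  obtain ⟨b, c, d, e, f, hb, hd, hf, rfl⟩ := h.mem_Q1.1 hv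
  exact ⟨b, c, e, f, hb, hf, d, hd, rfl⟩

theorem Co.unique {v : G} {b c e f b' c' e' f' : E} (h1 : Co σ x v b c e f) (h2 : Co σ x v b' c' e' f') :
    b = b' ∧ c = c' ∧ e = e' ∧ f = f' := by
  obtain ⟨hb, hf, d, hd, rfl⟩ := h1
  obtain ⟨hb', hf', d', hd', e1⟩ := h2
  obtain ⟨a1, a2, -, a4, a5⟩ := h.q_inj hb hd hf hb' hd' hf' e1
  exact ⟨a1, a2, a4, a5⟩

theorem Co.mul {v w : G} {b c e f b' c' e' f' : E} (h1 : Co σ x v b c e f) (h2 : Co σ x w b' c' e' f') :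
    Co σ x (v * w) (b + b') (c + c') (e + e') (f + f') := by
  obtain ⟨hb, hf, d, hd, rfl⟩ := h1
  obtain ⟨hb', hf', d', hd', rfl⟩ := h2
  refine ⟨by rw [map_add, hb, hb'], by rw [map_add, hf, hf'], _, ?_, h.q_mul hb hd hf hb' hd' hf'⟩
  rw [map_add, map_add, map_add, map_mul, hd, hd', hb', hf, h.fix_trc]

theorem Co.x4 {v z : G} (hz : z ∈ gen σ x {4}) {b c e f : E} (h1 : Co σ x v b c e f) : Co σ x (z * v) b c e f := by
  obtain ⟨t, ht, rfl⟩ := h.mem_gen_singleton.1 hz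
  have h2 : Co σ x (x 4 t) 0 0 0 0 := ⟨map_zero σ, map_zero σ, t, ht (by decide), (h.q4 t).symm⟩
  have := h2.mul h h1
  simpa using this

theorem Co.conj1 (a : E) {v : G} {b c e f : E} (h1 : Co σ x v b c e f) :
    Co σ x (x 1 a * v * (x 1 a)⁻¹) (b + trc σ a c + trc σ (shp σ a) e + f * nrm σ a) (c + crs σ a e + f * shp σ a)
      (e + f * a) f := by
  obtain ⟨hb, hf, d, hd, rfl⟩ := h1
  refine ⟨?_, hf, d + trc σ a (shp σ e) + f ^ 2 * nrm σ a + f * trc σ (shp σ a) e, ?_, ?_⟩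
  · rw [map_add, map_add, map_add, map_mul, h.fix_trc, h.fix_trc, h.fix_nrm, hb, hf]
  · rw [map_add, map_add, map_add, map_mul, map_mul, h.fix_trc, h.fix_trc, h.fix_nrm, map_pow, hd, hf]
  · rw [h.x1_q a hb hd hf, mul_inv_cancel_right]

theorem Co.conjn {v : G} {b c e f : E} (h1 : Co σ x v b c e f) :
    Co σ x (nn x 1 * v * (nn x 1)⁻¹) f e c b := by
  obtain ⟨hb, hf, d, hd, rfl⟩ := h1
  refine ⟨hf, hb, d + b * f + trc σ e c, ?_, ?_⟩
  · rw [map_add, map_add, map_mul, h.fix_trc, hb, hf, hd]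
  · rw [h.nn1_q hb hd hf, mul_inv_cancel_right]

theorem co_x2 {t : E} (ht : σ t = t) : Co σ x (x 2 t) t 0 0 0 := ⟨ht, map_zero σ, 0, map_zero σ, (h.q2 t).symm⟩

theorem co_x3 (c : E) : Co σ x (x 3 c) 0 c 0 0 := ⟨map_zero σ, map_zero σ, 0, map_zero σ, (h.q3 c).symm⟩

theorem co_x5 (e : E) : Co σ x (x 5 e) 0 0 e 0 := ⟨map_zero σ, map_zero σ, 0, map_zero σ, (h.q5 e).symm⟩

theorem co_x6 {t : E} (ht : σ t = t) : Co σ x (x 6 t) 0 0 0 t := ⟨map_zero σ, ht, 0, map_zero σ, (h.q6 t).symm⟩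

theorem co_one : Co σ x 1 0 0 0 0 := ⟨map_zero σ, map_zero σ, 0, map_zero σ, h.q_zero.symm⟩

theorem comm_Q {v w : G} (hv : v ∈ gen σ x (arc 2 5)) (hw : w ∈ gen σ x (arc 2 5)) : ⁅v, w⁆ ∈ gen σ x {4} :=
  h.comm_Q1 (k := 4) (by decide) hv hw

theorem Co.conjQ {v w : G} (hw : w ∈ gen σ x (arc 2 5)) {b c e f : E} (h1 : Co σ x v b c e f) :
    Co σ x (w * v * w⁻¹) b c e f := by
  have e1 : w * v * w⁻¹ = ⁅w, v⁆ * v := by rw [commutatorElement_def]; group
  rw [e1]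
  exact h1.x4 h (comm_Q h hw h1.mem)

theorem Co.of_conjQ {v w : G} (hw : w ∈ gen σ x (arc 2 5)) {b c e f : E} (h1 : Co σ x (w * v * w⁻¹) b c e f) :
    Co σ x v b c e f := by
  have := h1.conjQ h (inv_mem hw)
  have e1 : w⁻¹ * (w * v * w⁻¹) * w⁻¹⁻¹ = v := by group
  rwa [e1] at this

/-- the commutator form of `Q₁` -/
def BB (σ : E ≃+* E) (b c e f b' c' e' f' : E) : E := b' * f + b * f' + trc σ c' e + trc σ c e'

theorem conj_Co {v w : G} {b c e f b' c' e' f' : E} (h1 : Co σ x v b c e f) (h2 : Co σ x w b' c' e' f') :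
    v * w * v⁻¹ = x 4 (BB σ b c e f b' c' e' f') * w := by
  obtain ⟨hb, hf, d, hd, rfl⟩ := h1
  obtain ⟨hb', hf', d', hd', rfl⟩ := h2
  have hB : σ (BB σ b c e f b' c' e' f') = BB σ b c e f b' c' e' f' := by
    unfold BB
    rw [map_add, map_add, map_add, map_mul, map_mul, h.fix_trc, h.fix_trc, hb, hb', hf, hf']
  rw [mul_inv_eq_iff_eq_mul, h.q_mul hb hd hf hb' hd' hf', mul_assoc, h.q_mul hb' hd' hf' hb hd hf,
    ← h.q4 (BB σ b c e f b' c' e' f')]
  have hD : σ (d' + d + b * f' + trc σ c e') = d' + d + b * f' + trc σ c e' := by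
    rw [map_add, map_add, map_add, map_mul, h.fix_trc, hd, hd', hb, hf']
  rw [h.q_mul (map_zero σ) hB (map_zero σ) (by rw [map_add, hb, hb']) hD (by rw [map_add, hf, hf'])]
  have e2 : trc σ (c' + c) 0 = 0 := trc_zero_right _
  have key : d + d' + b' * f + trc σ c' e =
      BB σ b c e f b' c' e' f' + (d' + d + b * f' + trc σ c e') + (b' + b) * 0 + trc σ (c' + c) 0 := by
    rw [e2]
    unfold BB
    have e3 : b * f' + b * f' = 0 := h.add_self _
    have e4 : trc σ c e' + trc σ c e' = 0 := h.add_self _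
    linear_combination (-1 : E) * e3 - e4
  rw [key]
  congr 1 <;> ring

end Cfsg.Agent.OddHalf.DblR.HexK

end

-- merged: Cfsg.Agent.OddHalf.DblR.HexK.KFour
section

/-!
# `G₂(q)`, `³D₄(q)`: elements which act trivially on `P₁ / Q₁`

`P = ⟨X₁, …, X₇⟩`, `Q = X₂X₃X₄X₅X₆`. Let `[e, P] ≤ Q`, `e` normalises `X₄`. Then `e` acts on `Q / X₄` as a scalar of the
fixed field.
-/

set_option autoImplicit false
set_option maxHeartbeats 400000

namespace Cfsg.Agent.OddHalf.DblR.HexK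

open Subgroup Cfsg.Agent.StdRank2.Hex Cfsg.Agent.StdRank2.Hex.HexTwo Cfsg.Agent.SplitTwo
open scoped commutatorElement

variable {E : Type*} [Field E] {σ : E ≃+* E} {G : Type*} [Group G] {x : ZMod 12 → E → G}

/-- the norms generate the fixed field -/
def NormGen (σ : E ≃+* E) : Prop := ∀ s, σ s = s → s ∈ Subring.closure {y | ∃ a, y = nrm σ a}

theorem NormGen.linear (hc : ∀ a, σ (σ (σ a)) = a) (hg : NormGen σ) {φ : E → E}
    (h1 : ∀ s t, σ s = s → σ t = t → φ (s + t) = φ s + φ t)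
    (h2 : ∀ s a, σ s = s → φ (s * nrm σ a) = φ s * nrm σ a) {s : E} (hs : σ s = s) : φ s = φ 1 * s := by
  have h0 : φ 0 = 0 := by
    have := h1 0 0 (map_zero σ) (map_zero σ)
    rw [add_zero] at this
    exact left_eq_add.1 this
  have hneg : ∀ s, σ s = s → φ (-s) = -φ s := by
    intro s hs
    have := h1 s (-s) hs (by rw [map_neg, hs])
    rw [add_neg_cancel, h0] at this
    exact (neg_eq_of_add_eq_zero_right this.symm).symm
  have key : σ s = s ∧ ∀ t, σ t = t → φ (t * s) = φ t * s := by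
    refine Subring.closure_induction (p := fun s _ => σ s = s ∧ ∀ t, σ t = t → φ (t * s) = φ t * s)
      ?_ ?_ ?_ ?_ ?_ ?_ (hg s hs)
    · rintro _ ⟨a, rfl⟩
      exact ⟨nrm_fix hc a, fun t ht => h2 t a ht⟩
    · exact ⟨map_zero σ, fun t _ => by rw [mul_zero, mul_zero, h0]⟩
    · exact ⟨map_one σ, fun t _ => by rw [mul_one, mul_one]⟩
    · rintro y z - - ⟨hy, hy'⟩ ⟨hz, hz'⟩
      refine ⟨by rw [map_add, hy, hz], fun t ht => ?_⟩
      rw [mul_add, h1 _ _ (by rw [map_mul, ht, hy]) (by rw [map_mul, ht, hz]), hy' t ht, hz' t ht, mul_add]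
    · rintro y - ⟨hy, hy'⟩
      refine ⟨by rw [map_neg, hy], fun t ht => ?_⟩
      rw [mul_neg, hneg _ (by rw [map_mul, ht, hy]), hy' t ht, mul_neg]
    · rintro y z - - ⟨hy, hy'⟩ ⟨hz, hz'⟩
      refine ⟨by rw [map_mul, hy, hz], fun t ht => ?_⟩
      rw [← mul_assoc, hz' _ (by rw [map_mul, ht, hy]), hy' t ht, mul_assoc]
  have := key.2 1 (map_one σ)
  rwa [one_mul] at this

variable (h : HexTwo σ x)
include h

theorem Co.of_x4 {v z : G} (hz : z ∈ gen σ x {4}) {b c e f : E} (h1 : Co σ x (z * v) b c e f) : Co σ x v b c e f := by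
  have := h1.x4 h (inv_mem hz)
  rwa [inv_mul_cancel_left] at this

theorem shp_fix_mul {s : E} (hs : σ s = s) (a : E) : shp σ (s * a) = s ^ 2 * shp σ a := by
  rw [shp_mul]
  congr 1
  unfold shp
  rw [hs, hs, pow_two]

theorem nrm_fix_mul {s : E} (hs : σ s = s) (a : E) : nrm σ (s * a) = s ^ 3 * nrm σ a := by
  rw [nrm_mul]
  congr 1
  unfold nrm
  rw [hs, hs]
  ring

omit h in
theorem nrm_eq (a : E) : nrm σ a = a * shp σ a := by
  unfold nrm shp
  rw [mul_assoc]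

theorem trc_shp_self (a : E) : trc σ (shp σ a) a = nrm σ a := by
  have e1 : shp σ a * a = nrm σ a := by rw [nrm_eq, mul_comm]
  unfold trc
  rw [e1, h.fix_nrm, h.fix_nrm]
  have := h.add_self (nrm σ a)
  linear_combination this

/-- fixed points of `X₁` on `Q / X₄` -/
theorem fixed_coord {ω : E} (hω : σ ω = ω) (hω0 : ω ≠ 0) (hω1 : ω ≠ 1) {c e : E}
    (hc : ∀ a, trc σ a c + trc σ (shp σ a) e = 0) : c = 0 ∧ e = 0 := by
  have key : ∀ a, trc σ a c = 0 := by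
    intro a
    have h1 := hc a
    have h2 := hc (ω * a)
    rw [shp_fix_mul h hω, trc_smul_left hω, trc_smul_left (by rw [map_pow, hω])] at h2
    have h3 : trc σ (shp σ a) e = trc σ a c := by
      have := h.add_self (trc σ (shp σ a) e)
      linear_combination h1 - this + h.add_self (trc σ (shp σ a) e) - h.add_self (trc σ a c)
    rw [h3] at h2
    have h4 : (ω * (1 + ω)) * trc σ a c = 0 := by linear_combination h2
    rcases mul_eq_zero.1 h4 with h5 | h5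
    · rcases mul_eq_zero.1 h5 with h6 | h6
      · exact absurd h6 hω0
      · exfalso
        apply hω1
        have := h.add_self (1 : E)
        linear_combination h6 - this
    · exact h5
  have hc0 : c = 0 := h.eq_zero_of_trc fun y => by rw [trc_comm]; exact key y
  refine ⟨hc0, ?_⟩
  by_contra he
  have h1 := hc e
  rw [hc0, trc_zero_right, zero_add, trc_shp_self h] at h1
  exact nrm_ne_zero he h1

section Act

variable {e : G} (hP : ∀ p ∈ gen σ x (arc 1 7), e * p * e⁻¹ * p⁻¹ ∈ gen σ x (arc 2 5))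
include hP

theorem conj_Q {v : G} (hv : v ∈ gen σ x (arc 2 5)) : e * v * e⁻¹ ∈ gen σ x (arc 2 5) := by
  have h1 := hP v (arc_sub (k := 2) (l := 1) (m := 5) (n := 7) (by decide) hv)
  have h2 := mul_mem h1 hv
  rwa [inv_mul_cancel_right] at h2

theorem act_iff {p v : G} (hp : p ∈ gen σ x (arc 1 7)) {b c e' f : E} :
    Co σ x (e * (p * v * p⁻¹) * e⁻¹) b c e' f ↔ Co σ x (p * (e * v * e⁻¹) * p⁻¹) b c e' f := by
  have e1 : e * (p * v * p⁻¹) * e⁻¹ =
      (e * p * e⁻¹ * p⁻¹) * (p * (e * v * e⁻¹) * p⁻¹) * (e * p * e⁻¹ * p⁻¹)⁻¹ := by group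
  rw [e1]
  exact ⟨fun h1 => h1.of_conjQ h (hP p hp), fun h1 => h1.conjQ h (hP p hp)⟩

omit h hP in
theorem nn1_P : nn x 1 ∈ gen σ x (arc 1 7) :=
  nn_mem_gen (show (1 - 1 : ZMod 12).val < 7 by decide) (show (1 + 6 - 1 : ZMod 12).val < 7 by decide)

omit h hP in
theorem x1_P (a : E) : x 1 a ∈ gen σ x (arc 1 7) :=
  x_mem_gen (show (1 - 1 : ZMod 12).val < 7 by decide) (ok_odd (by decide) a)

omit hP in
theorem nn1_x6 {t : E} (ht : σ t = t) : nn x 1 * x 6 t * (nn x 1)⁻¹ = x 2 t := by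
  have := h.refl1 6 t (ok_of_fix 6 ht)
  rwa [show (8 - 6 : ZMod 12) = 2 by decide] at this

/-- `e` acts on `X₂` and `X₆` modulo `X₄` by the same map -/
theorem exists_phi {ω : E} (hω : σ ω = ω) (hω0 : ω ≠ 0) (hω1 : ω ≠ 1) {t : E} (ht : σ t = t) :
    ∃ l, Co σ x (e * x 2 t * e⁻¹) l 0 0 0 ∧ Co σ x (e * x 6 t * e⁻¹) 0 0 0 l := by
  have hx6 : x 6 t ∈ gen σ x (arc 2 5) := (co_x6 h ht).mem
  obtain ⟨b, c, e', f, hv⟩ := exists_co h (conj_Q h hP hx6)
  have hu : Co σ x (e * x 2 t * e⁻¹) f e' c b := by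
    rw [← nn1_x6 h ht, act_iff h hP nn1_P]
    exact hv.conjn h
  have key : ∀ a, b * a = 0 ∧ trc σ a e' + trc σ (shp σ a) c = 0 := by
    intro a
    have h1 : Co σ x (e * (x 1 a * x 2 t * (x 1 a)⁻¹) * e⁻¹) f e' c b := by
      rw [h.s12 a ht, mul_inv_cancel_right]
      exact hu
    rw [act_iff h hP (x1_P a)] at h1
    obtain ⟨h2, -, h3, -⟩ := h1.unique h (hu.conj1 h a)
    have h3' : b * a = 0 := left_eq_add.1 h3
    refine ⟨h3', ?_⟩
    have hb0 : b * nrm σ a = 0 := by rw [nrm_eq, ← mul_assoc, h3', zero_mul]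
    rw [hb0, add_zero, add_assoc] at h2
    exact left_eq_add.1 h2
  have hb : b = 0 := by
    have := (key 1).1
    rwa [mul_one] at this
  obtain ⟨he', hc⟩ := fixed_coord h hω hω0 hω1 fun a => (key a).2
  subst hb he' hc
  exact ⟨f, hu, hv⟩

section

variable (hX : ∀ z ∈ gen σ x {4}, e * z * e⁻¹ ∈ gen σ x {4}) {φ : E → E}
  (hφ : ∀ t, σ t = t → Co σ x (e * x 2 t * e⁻¹) (φ t) 0 0 0 ∧ Co σ x (e * x 6 t * e⁻¹) 0 0 0 (φ t))
include hX hφ

/-- (A) -/
theorem formA (a : E) {t : E} (ht : σ t = t) :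
    Co σ x (e * (x 3 (t * shp σ a) * x 5 (t * a)) * e⁻¹) (φ t * nrm σ a + φ (t * nrm σ a)) (φ t * shp σ a)
      (φ t * a) 0 := by
  have h35 : x 3 (t * shp σ a) * x 5 (t * a) ∈ gen σ x (arc 2 5) := mul_mem (co_x3 h _).mem (co_x5 h _).mem
  obtain ⟨b, c, e', f, hv⟩ := exists_co h (conj_Q h hP h35)
  have htn : σ (t * nrm σ a) = t * nrm σ a := by rw [map_mul, ht, h.fix_nrm]
  -- the image of `x₁(a) x₆(t) x₁(a)⁻¹`
  have h1 : Co σ x (e * (x 1 a * x 6 t * (x 1 a)⁻¹) * e⁻¹) (φ t * nrm σ a) (φ t * shp σ a) (φ t * a) (φ t) := by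
    rw [act_iff h hP (x1_P a)]
    have := (hφ t ht).2.conj1 h a
    simpa [trc_zero_right, crs_zero_right] using this
  -- the element itself
  have h2 : Co σ x (x 1 a * x 6 t * (x 1 a)⁻¹) (t * nrm σ a) (t * shp σ a) (t * a) t := by
    have := (co_x6 h ht).conj1 h a
    simpa [trc_zero_right, crs_zero_right] using this
  obtain ⟨-, -, d, hd, e2⟩ := h2
  have e3 : x 1 a * x 6 t * (x 1 a)⁻¹ = x 2 (t * nrm σ a) * (x 4 d * (x 3 (t * shp σ a) * x 5 (t * a))) * x 6 t := by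
    rw [e2]
    unfold q
    have := h.s34 (t * shp σ a) hd
    calc x 2 (t * nrm σ a) * x 3 (t * shp σ a) * x 4 d * x 5 (t * a) * x 6 t
        = x 2 (t * nrm σ a) * (x 3 (t * shp σ a) * x 4 d) * x 5 (t * a) * x 6 t := by group
      _ = _ := by rw [this]; group
  have e4 : e * (x 1 a * x 6 t * (x 1 a)⁻¹) * e⁻¹ =
      (e * x 2 (t * nrm σ a) * e⁻¹) * ((e * x 4 d * e⁻¹) * (e * (x 3 (t * shp σ a) * x 5 (t * a)) * e⁻¹)) *
        (e * x 6 t * e⁻¹) := by
    rw [e3]; group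
  have h3 := (((hφ _ htn).1.mul h (hv.x4 h (hX _ (x_mem_gen (Set.mem_singleton _) (ok_of_fix 4 hd))))).mul h (hφ t ht).2)
  rw [← e4] at h3
  obtain ⟨a1, a2, a3, a4⟩ := h3.unique h h1
  rw [add_zero] at a1
  rw [zero_add, add_zero] at a2 a3
  rw [zero_add] at a4
  have b1 : b = φ t * nrm σ a + φ (t * nrm σ a) := by
    have := h.add_self (φ (t * nrm σ a))
    linear_combination a1 - this
  have b4 : f = 0 := by
    exact add_eq_right.1 a4
  rw [← b1, ← a2, ← a3, ← b4]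
  exact hv

theorem formB (a : E) {t : E} (ht : σ t = t) :
    Co σ x (e * (x 3 (t * a) * x 5 (t * shp σ a)) * e⁻¹) 0 (φ t * a) (φ t * shp σ a)
      (φ t * nrm σ a + φ (t * nrm σ a)) := by
  have h1 := (formA h hP hX hφ a ht).conjn h
  rw [← act_iff h hP nn1_P] at h1
  have r3 := h.refl1 3 (t * shp σ a) (ok_odd (by decide) _)
  have r5 := h.refl1 5 (t * a) (ok_odd (by decide) _)
  rw [show (8 - 3 : ZMod 12) = 5 by decide] at r3
  rw [show (8 - 5 : ZMod 12) = 3 by decide] at r5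
  have e1 : nn x 1 * (x 3 (t * shp σ a) * x 5 (t * a)) * (nn x 1)⁻¹ = x 5 (t * shp σ a) * x 3 (t * a) := by
    rw [← r3, ← r5]; group
  have hT : σ (trc σ (t * a) (t * shp σ a)) = trc σ (t * a) (t * shp σ a) := h.fix_trc _ _
  have e2 : x 5 (t * shp σ a) * x 3 (t * a) =
      x 4 (trc σ (t * a) (t * shp σ a)) * (x 3 (t * a) * x 5 (t * shp σ a)) := by
    rw [h.c35, mul_assoc (x 4 _), ← mul_assoc (x 4 _) (x 4 _), h.x_sq (ok_of_fix 4 hT), one_mul]
  rw [e1, e2] at h1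
  have e3 : e * (x 4 (trc σ (t * a) (t * shp σ a)) * (x 3 (t * a) * x 5 (t * shp σ a))) * e⁻¹ =
      (e * x 4 (trc σ (t * a) (t * shp σ a)) * e⁻¹) * (e * (x 3 (t * a) * x 5 (t * shp σ a)) * e⁻¹) := by group
  rw [e3] at h1
  exact Co.of_x4 h (hX _ (x_mem_gen (Set.mem_singleton _) (ok_of_fix 4 hT))) h1

theorem phi_nrm {a : E} (ha : a ≠ 0) {t : E} (ht : σ t = t) : φ (t * nrm σ a) = φ t * nrm σ a := by
  have hA := formA h hP hX hφ a ht
  have htn : σ (t * nrm σ a) = t * nrm σ a := by rw [map_mul, ht, h.fix_nrm]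
  have hB := formB h hP hX hφ a⁻¹ htn
  have hs : shp σ a ≠ 0 := shp_ne_zero ha
  have e1 : t * nrm σ a * a⁻¹ = t * shp σ a := by
    rw [nrm_eq]; field_simp
  have e2 : t * nrm σ a * shp σ a⁻¹ = t * a := by
    have : shp σ a⁻¹ = (shp σ a)⁻¹ := by
      unfold shp; rw [map_inv₀, map_inv₀, mul_inv]
    rw [nrm_eq, this]; field_simp
  rw [e1, e2] at hB
  obtain ⟨h1, -, -, -⟩ := hA.unique h hB
  have := h.add_self (φ t * nrm σ a)
  linear_combination h1 - this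

theorem phi_add {s t : E} (hs : σ s = s) (ht : σ t = t) : φ (s + t) = φ s + φ t := by
  have h1 := (hφ s hs).1.mul h (hφ t ht).1
  have e1 : e * x 2 s * e⁻¹ * (e * x 2 t * e⁻¹) = e * x 2 (s + t) * e⁻¹ := by
    rw [h.add 2 s t (ok_of_fix 2 hs) (ok_of_fix 2 ht)]; group
  rw [e1] at h1
  exact ((hφ (s + t) (by rw [map_add, hs, ht])).1.unique h h1).1

end

/-- **`e` acts on `Q / X₄` as a scalar.** -/
theorem exists_lam (hg : NormGen σ) {ω : E} (hω : σ ω = ω) (hω0 : ω ≠ 0) (hω1 : ω ≠ 1)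
    (hX : ∀ z ∈ gen σ x {4}, e * z * e⁻¹ ∈ gen σ x {4}) :
    ∃ l, σ l = l ∧ l ≠ 0 ∧ (∀ t, σ t = t → Co σ x (e * x 2 t * e⁻¹) (l * t) 0 0 0) ∧
      (∀ t, σ t = t → Co σ x (e * x 6 t * e⁻¹) 0 0 0 (l * t)) ∧
      (∀ t a, σ t = t → Co σ x (e * (x 3 (t * shp σ a) * x 5 (t * a)) * e⁻¹) 0 (l * t * shp σ a) (l * t * a) 0) ∧
      ∀ t, σ t = t → e * x 4 t * e⁻¹ = x 4 (l * l * t) := by
  have hex : ∀ t : E, ∃ l, σ t = t → Co σ x (e * x 2 t * e⁻¹) l 0 0 0 ∧ Co σ x (e * x 6 t * e⁻¹) 0 0 0 l := by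
    intro t
    by_cases ht : σ t = t
    · obtain ⟨l, hl⟩ := exists_phi h hP hω hω0 hω1 ht
      exact ⟨l, fun _ => hl⟩
    · exact ⟨0, fun h0 => absurd h0 ht⟩
  choose φ hφ using hex
  have hlin : ∀ s, σ s = s → φ s = φ 1 * s := fun s hs => hg.linear h.cube (fun s t hs ht => phi_add h hP hX hφ hs ht)
    (fun s a hs => by
      by_cases ha : a = 0
      · subst ha
        rw [nrm_zero, mul_zero, mul_zero]
        have h0 := phi_add h hP hX hφ (map_zero σ) (map_zero σ)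
        rw [add_zero] at h0
        exact left_eq_add.1 h0
      · exact phi_nrm h hP hX hφ ha hs) hs
  have h1f : σ (φ 1) = φ 1 := (hφ 1 (map_one σ)).1.1
  have h4 : ∀ t, σ t = t → e * x 4 t * e⁻¹ = x 4 (φ 1 * φ 1 * t) := by
    intro t ht
    have h2 := (hφ t ht).1
    have h6 := (hφ 1 (map_one σ)).2
    have e1 := conj_Co h h2 h6
    have e2 := h.c26 ht (map_one σ)
    rw [mul_one] at e2
    have e3 : x 4 t = x 2 t * x 6 1 * (x 2 t)⁻¹ * (x 6 1)⁻¹ := by rw [e2]; group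
    have e4 : BB σ (φ t) 0 0 0 0 0 0 (φ 1) = φ 1 * φ 1 * t := by
      unfold BB
      rw [trc_zero_left, hlin t ht]; ring
    rw [e4] at e1
    calc e * x 4 t * e⁻¹ = (e * x 2 t * e⁻¹) * (e * x 6 1 * e⁻¹) * (e * x 2 t * e⁻¹)⁻¹ * (e * x 6 1 * e⁻¹)⁻¹ := by
          rw [e3]; group
      _ = x 4 (φ 1 * φ 1 * t) := by rw [e1]; group
  refine ⟨φ 1, h1f, ?_, fun t ht => ?_, fun t ht => ?_, fun t a ht => ?_, h4⟩
  · intro h0
    have := h4 1 (map_one σ)
    rw [h0, zero_mul, zero_mul, h.x_zero] at this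
    have h1 : x 4 1 = 1 := by
      calc x 4 1 = e⁻¹ * (e * x 4 1 * e⁻¹) * e := by group
        _ = 1 := by rw [this]; group
    exact one_ne_zero ((h.x_eq_one (ok_one σ 4)).1 h1)
  · rw [← hlin t ht]; exact (hφ t ht).1
  · rw [← hlin t ht]; exact (hφ t ht).2
  · have h1 := formA h hP hX hφ a ht
    have h2 : φ t * nrm σ a + φ (t * nrm σ a) = 0 := by
      rw [hlin t ht, hlin (t * nrm σ a) (by rw [map_mul, ht, h.fix_nrm])]
      have := h.add_self (φ 1 * t * nrm σ a)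
      linear_combination this
    rw [h2] at h1
    rw [← hlin t ht]
    exact h1

end Act

end Cfsg.Agent.OddHalf.DblR.HexK

end
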